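/-
The numerical endgame for simple groups with a self-centralising element of order four.
-/
import Mathlib

set_option autoImplicit false

namespace Cfsg.Agent.Lib.SmallCentralizer.Arith

/-- The numerical data: `x`, `x₂`, `x₃` are degrees, `d`, `e₂`, `e₃` signs, `a b` the orders of the two parts of
the odd core. -/
structure Nums (g a b : ℕ) where
  k : ℕ
  d : ℤ
  x₂ : ℕ
  x₃ : ℕ
  e₂ : ℤ
  e₃ : ℤ
  hd : d = 1 ∨ d = -1
  he₂ : e₂ = 1 ∨ e₂ = -1
  he₃ : e₃ = 1 ∨ e₃ = -1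
  kpos : 0 < k
  xlow : 10 - d ≤ 8 * (k : ℤ) + d
  low₂ : 10 - e₂ ≤ (x₂ : ℤ)
  low₃ : 10 - e₃ ≤ (x₃ : ℤ)
  rel : 1 + d * (8 * (k : ℤ) + d) = e₂ * x₂ + e₃ * x₃
  order : (g : ℤ) * k ^ 2 = (a : ℤ) * b * (a + b) ^ 2 * ((8 * k + d) * (8 * k + 2 * d))
  column : (g : ℚ) * (1 + (d : ℚ) / (8 * k + d : ℤ) - (e₂ : ℚ) / x₂ - (e₃ : ℚ) / x₃) =
    256 * ((a : ℚ) * b) ^ 2

namespace Nums

variable {g a b : ℕ} (D : Nums g a b)

theorem sq_dvd : ((D.k : ℤ) ^ 2) ∣ 2 * ((a : ℤ) * b * (a + b) ^ 2) := by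
  have h : IsCoprime ((D.k : ℤ) ^ 2) ((8 * D.k + D.d) * (4 * D.k + D.d)) := by
    have hdd : D.d * D.d = 1 := by rcases D.hd with h | h <;> rw [h] <;> norm_num
    refine IsCoprime.pow_left (IsCoprime.mul_right ⟨-8 * D.d, D.d, ?_⟩ ⟨-4 * D.d, D.d, ?_⟩)
    · linear_combination hdd
    · linear_combination hdd
  refine h.dvd_of_dvd_mul_right ⟨(g : ℤ), ?_⟩
  linear_combination -D.order

/-- The product of the two signed degrees. -/
theorem product :
    (D.e₂ * D.x₂) * (D.e₃ * D.x₃) *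
        ((8 * (D.k : ℤ) + 2 * D.d) ^ 2 * ((a : ℤ) + b) ^ 2 - 256 * ((a : ℤ) * b) * D.k ^ 2) =
      (1 + D.d * (8 * (D.k : ℤ) + D.d)) *
        (((a : ℤ) + b) ^ 2 * ((8 * D.k + D.d) * (8 * D.k + 2 * D.d))) ∨ a * b = 0 := by
  rcases Nat.eq_zero_or_pos (a * b) with h0 | hab
  · exact Or.inr h0
  left
  have hx2 : (0 : ℤ) < D.x₂ := by
    have := D.low₂; rcases D.he₂ with h | h <;> omega
  have hx3 : (0 : ℤ) < D.x₃ := by
    have := D.low₃; rcases D.he₃ with h | h <;> omega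
  have hx : (0 : ℤ) < 8 * (D.k : ℤ) + D.d := by
    have := D.kpos; rcases D.hd with h | h <;> omega
  have hsum := D.rel
  have hcol := D.column
  have hord : (g : ℚ) * (D.k : ℚ) ^ 2 =
      (a : ℚ) * b * ((a : ℚ) + b) ^ 2 * ((8 * (D.k : ℚ) + D.d) * (8 * D.k + 2 * D.d)) := by
    exact_mod_cast D.order
  have hdd : (D.d : ℚ) * D.d = 1 := by rcases D.hd with h | h <;> rw [h] <;> norm_num
  have h22 : (D.e₂ : ℚ) * D.e₂ = 1 := by rcases D.he₂ with h | h <;> rw [h] <;> norm_num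
  have h33 : (D.e₃ : ℚ) * D.e₃ = 1 := by rcases D.he₃ with h | h <;> rw [h] <;> norm_num
  have hk0 : (D.k : ℚ) ≠ 0 := Nat.cast_ne_zero.2 D.kpos.ne'
  have hab0 : (a : ℚ) * b ≠ 0 := by exact_mod_cast hab.ne'
  have hx0 : ((8 * (D.k : ℤ) + D.d : ℤ) : ℚ) ≠ 0 := by exact_mod_cast hx.ne'
  have hx20 : (D.x₂ : ℚ) ≠ 0 := by exact_mod_cast hx2.ne'
  have hx30 : (D.x₃ : ℚ) ≠ 0 := by exact_mod_cast hx3.ne'
  have hs : (1 : ℚ) + D.d * (8 * D.k + D.d) = D.e₂ * D.x₂ + D.e₃ * D.x₃ := by exact_mod_cast hsum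
  push_cast at hcol hx0
  set X : ℚ := 8 * (D.k : ℚ) + D.d with hX
  have h1 : (g : ℚ) * (X * D.x₂ * D.x₃ + D.d * D.x₂ * D.x₃ - D.e₂ * X * D.x₃ - D.e₃ * X * D.x₂) =
      256 * ((a : ℚ) * b) ^ 2 * (X * D.x₂ * D.x₃) := by
    rw [← hcol]; field_simp
  have hs2 : (1 : ℚ) + D.d * X = D.e₂ * D.x₂ + D.e₃ * D.x₃ := hs
  have key : (D.e₂ : ℚ) * D.x₂ * (D.e₃ * D.x₃) *
        ((8 * (D.k : ℚ) + 2 * D.d) ^ 2 * ((a : ℚ) + b) ^ 2 - 256 * ((a : ℚ) * b) * D.k ^ 2) =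
      (1 + D.d * X) * (((a : ℚ) + b) ^ 2 * (X * (8 * D.k + 2 * D.d))) := by
    refine mul_left_cancel₀ hab0 (mul_left_cancel₀ hx0 ?_)
    have he : (8 * (D.k : ℚ) + 2 * D.d) = X + D.d := by rw [hX]; ring
    rw [he] at hord ⊢
    linear_combination (D.k : ℚ) ^ 2 * (D.e₂ : ℚ) * D.e₃ * h1 -
      (D.e₂ : ℚ) * D.e₃ * (X * D.x₂ * D.x₃ + D.d * D.x₂ * D.x₃ - D.e₂ * X * D.x₃ - D.e₃ * X * D.x₂) * hord
      - (a : ℚ) * b * ((a : ℚ) + b) ^ 2 * X * (X + D.d) * X * hs2 +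
      (a : ℚ) * b * ((a : ℚ) + b) ^ 2 * X * (X + D.d) * X * D.e₃ * D.x₃ * h22 +
      (a : ℚ) * b * ((a : ℚ) + b) ^ 2 * X * (X + D.d) * X * D.e₂ * D.x₂ * h33
  rw [hX] at key
  exact_mod_cast key

end Nums

/-- The numerator of the order formula. -/
def top (a b k : ℕ) (d : ℤ) : ℤ :=
  (a : ℤ) * b * ((a : ℤ) + b) ^ 2 * ((8 * (k : ℤ) + d) * (8 * (k : ℤ) + 2 * d))

/-- The denominator of the product of the signed degrees. -/
def den (a b k : ℕ) (d : ℤ) : ℤ :=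
  (8 * (k : ℤ) + 2 * d) ^ 2 * ((a : ℤ) + b) ^ 2 - 256 * ((a : ℤ) * b) * (k : ℤ) ^ 2

/-- The numerator of the product of the signed degrees. -/
def num (a b k : ℕ) (d : ℤ) : ℤ :=
  (1 + d * (8 * (k : ℤ) + d)) * (((a : ℤ) + b) ^ 2 * ((8 * (k : ℤ) + d) * (8 * (k : ℤ) + 2 * d)))

/-- Whether an integer is a square. -/
def isSq (z : ℤ) : Bool := (Nat.sqrt z.toNat : ℤ) * (Nat.sqrt z.toNat : ℤ) == z

theorem isSq_mul_self (y : ℤ) : isSq (y * y) = true := by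
  have h : (y * y).toNat = y.natAbs * y.natAbs := by
    rw [← Int.natAbs_mul_self' y]; rfl
  unfold isSq
  rw [h, Nat.sqrt_eq, beq_iff_eq, Int.natAbs_mul_self']

/-- A numerical possibility with a class of size `n`. -/
def admissible (a b k : ℕ) (d : ℤ) (n : ℕ) : Bool :=
  let g := top a b k d / (k : ℤ) ^ 2
  decide (10 - d ≤ 8 * (k : ℤ) + d) && decide (top a b k d % (k : ℤ) ^ 2 = 0) && decide (g % 16 ≠ 0) &&
    decide (g % ((n : ℤ) * 4 * a * b) = 0) && decide (12 * (a : ℤ) * b ^ 3 * n ≤ g) &&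
    decide (den a b k d ≠ 0) && decide (num a b k d % den a b k d = 0) &&
    isSq ((1 + d * (8 * (k : ℤ) + d)) ^ 2 - 4 * (num a b k d / den a b k d))

theorem not_admissible :
    ∀ p ∈ [(3, 3, 14), (3, 3, 22), (3, 5, 22), (3, 7, 22), (3, 9, 22), (3, 11, 22), (5, 5, 22), (5, 7, 22)],
      ∀ k ∈ List.range 160, k ≠ 0 → ∀ d ∈ ([1, -1] : List ℤ),
        admissible (p : ℕ × ℕ × ℕ).1 p.2.1 k d p.2.2 = false := by
  decide +kernel

namespace Nums

variable {g a b : ℕ} (D : Nums g a b)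

theorem top_eq : top a b D.k D.d = (g : ℤ) * (D.k : ℤ) ^ 2 := D.order.symm

theorem exists_product (hab : 0 < a * b) :
    ∃ y z : ℤ, y + z = 1 + D.d * (8 * (D.k : ℤ) + D.d) ∧ y * z * den a b D.k D.d = num a b D.k D.d :=
  ⟨D.e₂ * D.x₂, D.e₃ * D.x₃, D.rel.symm, (D.product.resolve_right hab.ne' :)⟩

theorem den_ne_zero (hab : 0 < a * b) : den a b D.k D.d ≠ 0 := by
  intro h
  obtain ⟨y, z, -, hp⟩ := D.exists_product hab
  rw [h, mul_zero] at hp
  unfold num at hp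
  have h1 := D.kpos
  have ha : 0 < a := Nat.pos_of_ne_zero fun e => by simp [e] at hab
  rcases mul_eq_zero.1 hp.symm with e | e
  · rcases D.hd with hd | hd <;> rw [hd] at e <;> omega
  rcases mul_eq_zero.1 e with e | e
  · have := pow_eq_zero_iff two_ne_zero |>.1 e; omega
  rcases mul_eq_zero.1 e with e | e <;> rcases D.hd with hd | hd <;> rw [hd] at e <;> omega

include D in
/-- With `b = 1` the order is `2520`. -/
theorem eq_2520 (hb : b = 1) (hodd : Odd a) (ha : 3 ≤ a) (h8 : 8 ∣ g) (h16 : ¬ 16 ∣ g) :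
    g = 2520 ∧ a = 3 := by
  subst hb
  have hk := D.kpos
  have hx := D.xlow
  have hx2 : (9 : ℚ) ≤ D.x₂ := by
    have := D.low₂; rcases D.he₂ with h | h <;> rw [h] at this <;>
      · have : (9 : ℤ) ≤ D.x₂ := by omega
        exact_mod_cast this
  have hx3 : (9 : ℚ) ≤ D.x₃ := by
    have := D.low₃; rcases D.he₃ with h | h <;> rw [h] at this <;>
      · have : (9 : ℤ) ≤ D.x₃ := by omega
        exact_mod_cast this
  have hX : (9 : ℚ) ≤ ((8 * D.k + D.d : ℤ) : ℚ) := by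
    have : (9 : ℤ) ≤ 8 * (D.k : ℤ) + D.d := by rcases D.hd with h | h <;> omega
    exact_mod_cast this
  have hQ : 52 * (D.k : ℤ) ^ 2 ≤ (8 * (D.k : ℤ) + D.d) * (8 * D.k + 2 * D.d) := by
    rcases D.hd with h | h <;> rw [h] at hx ⊢
    · nlinarith
    · have : (2 : ℤ) ≤ D.k := by omega
      nlinarith
  have hg : 52 * ((a : ℤ) * (a + 1) ^ 2) ≤ g := by
    have := D.order
    push_cast at this
    refine le_of_mul_le_mul_right ?_ (show (0 : ℤ) < (D.k : ℤ) ^ 2 by positivity)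
    rw [this]
    nlinarith [mul_le_mul_of_nonneg_left hQ (show (0 : ℤ) ≤ (a : ℤ) * (a + 1) ^ 2 by positivity)]
  have hcol := D.column
  have hL : (2 : ℚ) / 3 ≤ 1 + (D.d : ℚ) / (8 * D.k + D.d : ℤ) - (D.e₂ : ℚ) / D.x₂ - (D.e₃ : ℚ) / D.x₃ := by
    have i2 : (D.e₂ : ℚ) / D.x₂ ≤ 1 / 9 := by
      rcases D.he₂ with h | h <;> rw [h] <;> rw [div_le_iff₀ (by linarith)] <;> push_cast <;> linarith
    have i3 : (D.e₃ : ℚ) / D.x₃ ≤ 1 / 9 := by
      rcases D.he₃ with h | h <;> rw [h] <;> rw [div_le_iff₀ (by linarith)] <;> push_cast <;> linarith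
    have i1 : (-1 : ℚ) / 9 ≤ (D.d : ℚ) / (8 * D.k + D.d : ℤ) := by
      rw [le_div_iff₀ (by linarith)]
      rcases D.hd with h | h <;> rw [h] at hX ⊢ <;> push_cast at hX ⊢ <;> linarith
    linarith
  have hle : (g : ℚ) * (2 / 3) ≤ 256 * ((a : ℚ) * (1 : ℕ)) ^ 2 :=
    hcol ▸ mul_le_mul_of_nonneg_left hL (Nat.cast_nonneg g)
  push_cast at hle
  have hle' : (g : ℤ) ≤ 384 * (a : ℤ) ^ 2 := by
    have : (g : ℚ) ≤ 384 * (a : ℚ) ^ 2 := by linarith
    exact_mod_cast this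
  have ha5 : a ≤ 5 := by
    by_contra hne
    have h7 : (6 : ℤ) ≤ a := by omega
    nlinarith
  obtain rfl | rfl : a = 3 ∨ a = 5 := by
    obtain ⟨m, rfl⟩ := hodd; omega
  · refine ⟨?_, rfl⟩
    have hsq := D.sq_dvd
    push_cast at hsq
    have hk4 : D.k ≤ 9 := by
      by_contra hne
      have := Int.le_of_dvd (by norm_num) hsq
      have : (10 : ℤ) ≤ D.k := by omega
      nlinarith
    obtain ⟨y, z, -, hp⟩ := D.exists_product (by norm_num)
    have hmod : num 3 1 D.k D.d % den 3 1 D.k D.d = 0 := by rw [← hp]; exact Int.mul_emod_left _ _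
    have ht := D.top_eq
    obtain ⟨c, hc⟩ := h8
    rcases D.hd with hd | hd <;> rw [hd] at hmod ht hx <;> interval_cases h : D.k <;>
      revert hmod ht hsq <;> norm_num [top, num, den] <;> intros <;> omega
  · have hsq := D.sq_dvd
    push_cast at hsq
    have hk : D.k ≤ 18 := by
      by_contra hne
      have := Int.le_of_dvd (by norm_num) hsq
      have : (19 : ℤ) ≤ D.k := by omega
      nlinarith
    obtain ⟨y, z, -, hp⟩ := D.exists_product (by norm_num)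
    have hmod : num 5 1 D.k D.d % den 5 1 D.k D.d = 0 := by rw [← hp]; exact Int.mul_emod_left _ _
    have ht := D.top_eq
    exfalso
    rcases D.hd with hd | hd <;> rw [hd] at hmod ht hx <;> interval_cases h : D.k <;>
      revert hmod ht hsq <;> norm_num [top, num, den] <;> intros <;> omega

include D in
theorem false_small (ha : 3 ≤ a) (hab : a ≤ b) (haodd : Odd a) (hbodd : Odd b) (h16 : ¬ 16 ∣ g)
    {n m : ℕ} (hn : n = 14 ∧ a * b ≤ 9 ∨ n = 22 ∧ a * b ≤ 38) (hg : g = n * m)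
    (hm : 12 * a * b ^ 3 ≤ m) (hdiv : 4 * a * b ∣ m) : False := by
  have hk := D.kpos
  have hab0 : 0 < a * b := Nat.mul_pos (by omega) (by omega)
  have hle : a * b ≤ 38 := by omega
  have ha6 : a ≤ 6 := by
    by_contra hne
    nlinarith
  have hb12 : b ≤ 12 := by nlinarith
  have hkb : D.k < 160 := by
    by_contra hne
    have hpa : (0 : ℤ) < a := by omega
    have hpb : (0 : ℤ) < b := by omega
    have hs := Int.le_of_dvd (by positivity) D.sq_dvd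
    have h130 : (160 : ℤ) ≤ D.k := by omega
    have : (a : ℤ) * b ≤ 38 := by exact_mod_cast hle
    have : ((a : ℤ) + b) ^ 2 ≤ 324 := by
      have : (a : ℤ) + b ≤ 18 := by omega
      nlinarith
    have : (a : ℤ) * b * ((a : ℤ) + b) ^ 2 ≤ 38 * 324 :=
      mul_le_mul ‹(a : ℤ) * b ≤ 38› this (by positivity) (by norm_num)
    have : 2 * ((a : ℤ) * b * ((a : ℤ) + b) ^ 2) ≤ 24624 := by linarith
    nlinarith
  obtain ⟨y, z, hyz, hp⟩ := D.exists_product hab0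
  have hden := D.den_ne_zero hab0
  have hk2 : ((D.k : ℤ) ^ 2) ≠ 0 := by positivity
  have hq : num a b D.k D.d / den a b D.k D.d = y * z := by
    rw [← hp, Int.mul_ediv_cancel _ hden]
  have hgq : top a b D.k D.d / (D.k : ℤ) ^ 2 = g := by
    rw [D.top_eq, Int.mul_ediv_cancel _ hk2]
  have hadm : ∀ n' : ℕ, (g : ℤ) % ((n' : ℤ) * 4 * a * b) = 0 → 12 * (a : ℤ) * b ^ 3 * n' ≤ g →
      admissible a b D.k D.d n' = true := by
    intro n' e1 e2
    have e0 : top a b D.k D.d % (D.k : ℤ) ^ 2 = 0 := by rw [D.top_eq]; exact Int.mul_emod_left _ _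
    have e3 : num a b D.k D.d % den a b D.k D.d = 0 := by rw [← hp]; exact Int.mul_emod_left _ _
    have e4 : (g : ℤ) % 16 ≠ 0 := by omega
    have e5 : isSq ((1 + D.d * (8 * (D.k : ℤ) + D.d)) ^ 2 -
        4 * (num a b D.k D.d / den a b D.k D.d)) = true := by
      rw [hq, ← hyz, show (y + z) ^ 2 - 4 * (y * z) = (y - z) * (y - z) by ring]
      exact isSq_mul_self _
    simp only [admissible, hgq, e0, e3, D.xlow, decide_true, Bool.true_and, e5, Bool.and_true,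
      Bool.and_eq_true, decide_eq_true_eq]
    exact ⟨⟨⟨e4, e1⟩, e2⟩, hden⟩
  have hgz : (g : ℤ) = _ := congrArg (Nat.cast (R := ℤ)) hg
  obtain ⟨c, rfl⟩ := hdiv
  have hA := hadm n (Int.emod_eq_zero_of_dvd ⟨c, by rw [hgz]; push_cast; ring⟩) (by
    rw [hgz]
    have : (12 : ℤ) * a * b ^ 3 ≤ 4 * a * b * c := by exact_mod_cast hm
    push_cast
    calc (12 : ℤ) * a * b ^ 3 * n ≤ 4 * a * b * c * n :=
          mul_le_mul_of_nonneg_right this (by positivity)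
      _ = _ := by ring)
  have hd : D.d ∈ ([1, -1] : List ℤ) := by rcases D.hd with h | h <;> simp [h]
  have hmem : (a, b, n) ∈
      [(3, 3, 14), (3, 3, 22), (3, 5, 22), (3, 7, 22), (3, 9, 22), (3, 11, 22), (5, 5, 22), (5, 7, 22)] := by
    obtain ⟨i, rfl⟩ := haodd
    obtain ⟨j, rfl⟩ := hbodd
    have hi : i ≤ 2 := by omega
    have hj : j ≤ 5 := by omega
    rcases hn with ⟨rfl, hn⟩ | ⟨rfl, hn⟩ <;> interval_cases i <;> interval_cases j <;>
      first | omega | decide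
  have hF := not_admissible _ hmem D.k (List.mem_range.2 hkb) (by omega) D.d hd
  exact absurd (hA.symm.trans hF) (by decide)

include D in
/-- Both parts non-trivial is impossible. -/
theorem false_of_orbit (ha : 3 ≤ a) (hab : a ≤ b) (haodd : Odd a) (hbodd : Odd b) (h16 : ¬ 16 ∣ g)
    {n m : ℕ} (hn : n % 8 = 6) (hg : g = n * m) (hm : 12 * a * b ^ 3 ≤ m) (hdiv : 4 * a * b ∣ m)
    (h6 : n = 6 → a * b ≤ 8) (h14 : n = 14 → a * b ≤ 9) (h22 : n = 22 → a * b ≤ 38) : False := by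
  have hk := D.kpos
  have hab0 : 0 < a * b := Nat.mul_pos (by omega) (by omega)
  have hord := D.order
  have hQ : (8 * (D.k : ℤ) + D.d) * (8 * D.k + 2 * D.d) ≤ 90 * (D.k : ℤ) ^ 2 := by
    rcases D.hd with h | h <;> rw [h] <;> nlinarith
  have hb0 : (0 : ℤ) < b := by omega
  have habz : (0 : ℤ) < (a : ℤ) * b := by exact_mod_cast hab0
  have key : 12 * (a : ℤ) * b ^ 3 * n * (D.k : ℤ) ^ 2 ≤
      (a : ℤ) * b * ((a : ℤ) + b) ^ 2 * ((8 * (D.k : ℤ) + D.d) * (8 * D.k + 2 * D.d)) := by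
    rw [← hord]
    refine mul_le_mul_of_nonneg_right ?_ (by positivity)
    have : 12 * a * b ^ 3 * n ≤ g := by rw [hg]; nlinarith
    exact_mod_cast this
  have key2 : 12 * (b : ℤ) ^ 2 * n * (D.k : ℤ) ^ 2 ≤
      ((a : ℤ) + b) ^ 2 * ((8 * (D.k : ℤ) + D.d) * (8 * D.k + 2 * D.d)) := by
    refine le_of_mul_le_mul_left ?_ habz
    nlinarith [key]
  have hsum : ((a : ℤ) + b) ^ 2 ≤ 4 * (b : ℤ) ^ 2 := by
    have : (a : ℤ) ≤ b := by exact_mod_cast hab
    nlinarith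
  have hn30 : n ≤ 30 := by
    by_contra hne
    have : (31 : ℤ) ≤ n := by omega
    have hpos : (0 : ℤ) < (b : ℤ) ^ 2 * (D.k : ℤ) ^ 2 := by positivity
    have : 12 * (b : ℤ) ^ 2 * n * (D.k : ℤ) ^ 2 ≤ 4 * (b : ℤ) ^ 2 * (90 * (D.k : ℤ) ^ 2) :=
      key2.trans ((mul_le_mul_of_nonneg_left hQ (by positivity)).trans
        (mul_le_mul_of_nonneg_right hsum (by positivity)))
    nlinarith
  obtain rfl | rfl | rfl | rfl : n = 6 ∨ n = 14 ∨ n = 22 ∨ n = 30 := by omega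
  · have := h6 rfl
    nlinarith
  · exact D.false_small ha hab haodd hbodd h16 (Or.inl ⟨rfl, h14 rfl⟩) hg hm hdiv
  · exact D.false_small ha hab haodd hbodd h16 (Or.inr ⟨rfl, h22 rfl⟩) hg hm hdiv
  -- `n = 30`
  have he : a = b := by
    by_contra hne
    have hlt : (a : ℤ) + 1 ≤ b := by omega
    have hpos : (0 : ℤ) < (D.k : ℤ) ^ 2 := by positivity
    have h1 : ((a : ℤ) + b) ^ 2 * ((8 * (D.k : ℤ) + D.d) * (8 * D.k + 2 * D.d)) ≤
        ((a : ℤ) + b) ^ 2 * (90 * (D.k : ℤ) ^ 2) := mul_le_mul_of_nonneg_left hQ (by positivity)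
    have h2 : 4 * (b : ℤ) ^ 2 ≤ ((a : ℤ) + b) ^ 2 := by
      refine le_of_mul_le_mul_right ?_ (show (0 : ℤ) < 90 * (D.k : ℤ) ^ 2 by positivity)
      push_cast at key2
      linarith [key2.trans h1]
    nlinarith
  subst he
  have h90 : 90 * (D.k : ℤ) ^ 2 ≤ (8 * (D.k : ℤ) + D.d) * (8 * D.k + 2 * D.d) := by
    refine le_of_mul_le_mul_left ?_ (show (0 : ℤ) < 4 * (a : ℤ) ^ 2 by positivity)
    push_cast at key2
    nlinarith
  have hd1 : D.d = 1 := by
    rcases D.hd with h | h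
    · exact h
    · rw [h] at h90; nlinarith
  have hk1 : D.k = 1 := by
    by_contra hne
    have : (2 : ℤ) ≤ D.k := by omega
    rw [hd1] at h90
    nlinarith
  obtain ⟨y, z, hyz, hp⟩ := D.exists_product hab0
  rw [hd1, hk1] at hyz hp
  simp only [num, den] at hp
  norm_num at hyz hp
  have hp' : y * z = 25 := by
    refine mul_right_cancel₀ (b := 144 * (a : ℤ) ^ 2) (by positivity) ?_
    linear_combination hp
  have hy : y = 5 := by nlinarith [mul_self_nonneg (y - z)]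
  have hrel := D.rel
  rw [hd1, hk1] at hrel
  have h2 := D.low₂
  have h3 := D.low₃
  rcases D.he₂ with h | h <;> rw [h] at hrel h2 <;> rcases D.he₃ with h' | h' <;> rw [h'] at hrel h3 <;>
    norm_num at hrel h2 h3
  all_goals (exfalso; clear key key2; have hs := D.product.resolve_right hab0.ne'; rw [hd1, hk1, h, h'] at hs; norm_num at hs; nlinarith [mul_nonneg (mul_nonneg (Int.natCast_nonneg D.x₂) (Int.natCast_nonneg D.x₃)) (sq_nonneg (a : ℤ)), sq_pos_of_pos hb0])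

end Nums

end Cfsg.Agent.Lib.SmallCentralizer.Arith
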