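/-
Dihedral Sylow 2-subgroups of order eight with a self-centralising element of order four:
the structure of the centraliser of an involution.
-/
import Cfsg.Agent.Lib.DihedralBlock.Order
import Cfsg.Agent.Lib.Fusion.DihedralClasses

set_option autoImplicit false

namespace Cfsg.Agent.Lib.SmallCentralizer

open Subgroup Cfsg.Agent.Lib.DihedralBlock Cfsg.Agent.Lib.DihedralBlock.Sections
open Cfsg.Agent.Lib.DihedralBlock.Order Cfsg.Agent.Lib.Fusion

universe u

/-- A dihedral Sylow 2-subgroup of order eight, a rotation `σ` of order four generating its own centraliser,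
a reflection `τ`, and no subgroup of index two. -/
structure Setup (G : Type u) [Group G] [Finite G] where
  P : Sylow 2 G
  eP : (P : Subgroup G) ≃* DihedralGroup 4
  σ : G
  τ : G
  rot : Rot P 4 σ
  hτ : τ ∈ (P : Subgroup G)
  hτz : τ ∉ zpowers σ
  hσC : Nat.card (centralizer ({σ} : Set G)) = 4
  hidx : ∀ H : Subgroup G, H.index ≠ 2

namespace Setup

variable {G : Type u} [Group G] [Finite G] (S : Setup G)

/-- The central involution. -/
abbrev J : G := S.σ ^ (4 / 2)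

/-- The odd core of the centraliser of `J`. -/
abbrev O : Subgroup G := kern S.σ 4

/-- The elements of the odd core centralised by `τ`. -/
def A : Subgroup G := S.O ⊓ centralizer ({S.τ} : Set G)

/-- The same set-up with the other class of reflections. -/
def swap : Setup G where
  P := S.P
  eP := S.eP
  σ := S.σ
  τ := S.σ * S.τ
  rot := S.rot
  hτ := mul_mem S.rot.mem S.hτ
  hτz := fun h => S.hτz (by simpa using mul_mem (inv_mem (mem_zpowers S.σ)) h)
  hσC := S.hσC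
  hidx := S.hidx

theorem J_mem : S.J ∈ (S.P : Subgroup G) := pow_mem S.rot.mem _

theorem J_sq : S.J * S.J = 1 := S.rot.half_sq

theorem J_ne : S.J ≠ 1 := S.rot.half_ne

theorem orderOf_J : orderOf S.J = 2 := S.rot.orderOf_half

theorem τ_sq : S.τ * S.τ = 1 := (S.rot.inverts S.τ S.hτ S.hτz).1

theorem τ_inv : S.τ⁻¹ = S.τ := inv_eq_of_mul_eq_one_right S.τ_sq

theorem τ_ne : S.τ ≠ 1 := fun h => S.hτz (h ▸ one_mem _)

theorem τ_ne_J : S.τ ≠ S.J := fun h => S.hτz (h ▸ pow_mem (mem_zpowers S.σ) _)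

theorem le_CJ : (S.P : Subgroup G) ≤ centralizer ({S.J} : Set G) := S.rot.le_centralizer_half

theorem J_comm_of_mem {p : G} (hp : p ∈ (S.P : Subgroup G)) : Commute S.J p :=
  (mem_centralizer_singleton_iff.1 (S.le_CJ hp)).symm

theorem τσ : S.τ * S.σ * S.τ⁻¹ = S.σ⁻¹ := (S.rot.inverts S.τ S.hτ S.hτz).2

theorem σ_ne : S.σ * S.σ ≠ 1 := fun e => S.J_ne (by
  show S.σ ^ (4 / 2) = 1
  rw [show (4 : ℕ) / 2 = 2 from rfl, pow_two, e])

theorem O_odd : Odd (Nat.card S.O) := card_kern_odd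

theorem commute_J {k : G} (hk : k ∈ S.O) : Commute S.J k :=
  (mem_centralizer_singleton_iff.1 (kern_le hk)).symm

theorem conj_mem {p k : G} (hp : p ∈ (S.P : Subgroup G)) (hk : k ∈ S.O) : p * k * p⁻¹ ∈ S.O :=
  kern_conj (S.le_CJ hp) hk

/-- The rotation acts without fixed points. -/
theorem eq_one_of_commute_σ {k : G} (hk : k ∈ S.O) (h : Commute S.σ k) : k = 1 := by
  have hd : orderOf k ∣ 4 := by
    rw [← S.hσC]
    exact orderOf_dvd_natCard _ (mem_centralizer_singleton_iff.2 h.eq.symm)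
  exact orderOf_eq_one_iff.1 (Nat.eq_one_of_dvd_coprimes
    ((Nat.coprime_two_right.2 (kern_odd hk)).pow_right 2) dvd_rfl hd)

/-- The rotation inverts the odd core. -/
theorem σ_inverts {k : G} (hk : k ∈ S.O) : S.σ * k * S.σ⁻¹ = k⁻¹ := by
  let f : S.O → S.O := fun l => ⟨(l : G)⁻¹ * (S.σ * l * S.σ⁻¹),
    mul_mem (inv_mem l.2) (S.conj_mem S.rot.mem l.2)⟩
  have hf : Function.Injective f := by
    intro l m e
    have e' : (l : G)⁻¹ * (S.σ * l * S.σ⁻¹) = (m : G)⁻¹ * (S.σ * m * S.σ⁻¹) :=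
      congrArg Subtype.val e
    have h : Commute S.σ ((l : G) * (m : G)⁻¹) := by
      refine mul_inv_eq_iff_eq_mul.1 ?_
      calc S.σ * ((l : G) * (m : G)⁻¹) * S.σ⁻¹
          = (l : G) * ((l : G)⁻¹ * (S.σ * l * S.σ⁻¹)) * (S.σ * m * S.σ⁻¹)⁻¹ := by group
        _ = (l : G) * ((m : G)⁻¹ * (S.σ * m * S.σ⁻¹)) * (S.σ * m * S.σ⁻¹)⁻¹ := by rw [e']
        _ = _ := by group
    exact Subtype.ext (mul_inv_eq_one.1 (S.eq_one_of_commute_σ (mul_mem l.2 (inv_mem m.2)) h))
  obtain ⟨⟨l, hl⟩, e⟩ := Finite.surjective_of_injective hf ⟨k, hk⟩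
  have e' : l⁻¹ * (S.σ * l * S.σ⁻¹) = k := congrArg Subtype.val e
  have hJl : S.σ * S.σ * l * (S.σ * S.σ)⁻¹ = l := by
    have hc : Commute (S.σ * S.σ) l := by
      have := S.commute_J hl
      rwa [show S.J = S.σ * S.σ from pow_two S.σ] at this
    rw [hc.eq, mul_inv_cancel_right]
  rw [← e']
  calc S.σ * (l⁻¹ * (S.σ * l * S.σ⁻¹)) * S.σ⁻¹
      = (S.σ * l * S.σ⁻¹)⁻¹ * (S.σ * S.σ * l * (S.σ * S.σ)⁻¹) := by group
    _ = _ := by rw [hJl]; group

theorem O_comm {k l : G} (hk : k ∈ S.O) (hl : l ∈ S.O) : Commute k l := by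
  have h := S.σ_inverts (mul_mem hk hl)
  have h2 : S.σ * (k * l) * S.σ⁻¹ = (S.σ * k * S.σ⁻¹) * (S.σ * l * S.σ⁻¹) := by group
  rw [h2, S.σ_inverts hk, S.σ_inverts hl, ← mul_inv_rev, inv_inj] at h
  exact h.symm

theorem στ_conj {k : G} (hk : k ∈ S.O) :
    (S.σ * S.τ) * k * (S.σ * S.τ)⁻¹ = (S.τ * k * S.τ⁻¹)⁻¹ := by
  rw [← S.σ_inverts (S.conj_mem S.hτ hk)]
  group

theorem mem_A {k : G} : k ∈ S.A ↔ k ∈ S.O ∧ Commute S.τ k := by
  simp only [A, Subgroup.mem_inf, mem_centralizer_singleton_iff]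
  exact ⟨fun h => ⟨h.1, h.2.symm⟩, fun h => ⟨h.1, h.2.symm⟩⟩

theorem A_le : S.A ≤ S.O := inf_le_left

theorem A_odd : Odd (Nat.card S.A) :=
  S.O_odd.of_dvd_nat (Subgroup.card_dvd_of_le S.A_le)

theorem O_sqrt {k : G} (hk : k ∈ S.O) : ∃ m ∈ S.O, m * m = k := by
  obtain ⟨l, hl⟩ := kern_odd hk
  refine ⟨k ^ (l + 1), pow_mem hk _, ?_⟩
  rw [← pow_add, show l + 1 + (l + 1) = orderOf k + 1 by omega, pow_succ, pow_orderOf_eq_one, one_mul]

/-- The odd core is the product of its two parts. -/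
theorem card_O : Nat.card S.O = Nat.card S.A * Nat.card S.swap.A := by
  rw [← Nat.card_prod]
  refine (Nat.card_congr (Equiv.ofBijective
    (fun x : S.A × S.swap.A => (⟨(x.1 : G) * x.2, mul_mem (S.A_le x.1.2) (S.swap.A_le x.2.2)⟩ : S.O))
    ⟨?_, ?_⟩)).symm
  · rintro ⟨⟨a, ha⟩, ⟨b, hb⟩⟩ ⟨⟨a', ha'⟩, ⟨b', hb'⟩⟩ e
    have e' : a * b = a' * b' := congrArg Subtype.val e
    have hd : a'⁻¹ * a = b' * b⁻¹ := by
      calc a'⁻¹ * a = a'⁻¹ * (a * b) * b⁻¹ := by group
        _ = _ := by rw [e']; group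
    set d := a'⁻¹ * a with hd'
    have hdA : d ∈ S.A := mul_mem (inv_mem ha') ha
    have hdB : d ∈ S.swap.A := hd ▸ mul_mem hb' (inv_mem hb)
    have h1 : Commute (S.σ * S.τ) d := ((mem_A S.swap).1 hdB).2
    have h2 : Commute S.σ d := by
      have := h1.mul_left ((S.mem_A.1 hdA).2.inv_left)
      rwa [mul_inv_cancel_right] at this
    have hd1 := S.eq_one_of_commute_σ (S.A_le hdA) h2
    have hb1 : b' * b⁻¹ = 1 := hd ▸ hd1
    exact Prod.ext (Subtype.ext (inv_mul_eq_one.1 hd1).symm) (Subtype.ext (mul_inv_eq_one.1 hb1).symm)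
  · rintro ⟨k, hk⟩
    obtain ⟨m, hm, rfl⟩ := S.O_sqrt hk
    set m' := S.τ * m * S.τ⁻¹ with hm'
    have hm'O : m' ∈ S.O := S.conj_mem S.hτ hm
    have hτm' : S.τ * m' * S.τ⁻¹ = m := by
      rw [hm', S.τ_inv]
      calc S.τ * (S.τ * m * S.τ) * S.τ = (S.τ * S.τ) * m * (S.τ * S.τ) := by group
        _ = m := by rw [S.τ_sq, one_mul, mul_one]
    have hc := S.O_comm hm hm'O
    refine ⟨(⟨m * m', S.mem_A.2 ⟨mul_mem hm hm'O, ?_⟩⟩,
      ⟨m * m'⁻¹, (mem_A S.swap).2 ⟨mul_mem hm (inv_mem hm'O), ?_⟩⟩), Subtype.ext ?_⟩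
    · refine mul_inv_eq_iff_eq_mul.1 ?_
      calc S.τ * (m * m') * S.τ⁻¹ = (S.τ * m * S.τ⁻¹) * (S.τ * m' * S.τ⁻¹) := by group
        _ = _ := by rw [hτm', ← hm', hc.eq]
    · refine mul_inv_eq_iff_eq_mul.1 ?_
      show S.σ * S.τ * (m * m'⁻¹) * (S.σ * S.τ)⁻¹ = m * m'⁻¹
      rw [S.στ_conj (mul_mem hm (inv_mem hm'O)),
        show S.τ * (m * m'⁻¹) * S.τ⁻¹ = (S.τ * m * S.τ⁻¹) * (S.τ * m' * S.τ⁻¹)⁻¹ by group,
        hτm', ← hm', mul_inv_rev, inv_inv]
    · show m * m' * (m * m'⁻¹) = m * m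
      calc m * m' * (m * m'⁻¹) = m * (m' * m) * m'⁻¹ := by group
        _ = m * (m * m') * m'⁻¹ := by rw [hc.eq]
        _ = m * m := by group

theorem swap_A_swap : Nat.card S.swap.swap.A * Nat.card S.swap.A = Nat.card S.O := by
  rw [show Nat.card S.O = Nat.card S.swap.O from rfl, S.swap.card_O, mul_comm]

theorem card_CJ : Nat.card (centralizer ({S.J} : Set G)) = Nat.card S.O * 8 :=
  card_centralizer_half S.rot

theorem card_kern_centralizer :
    Nat.card {k : G // k ∈ S.O ∧ k * S.τ = S.τ * k} = Nat.card S.A :=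
  Nat.card_congr (Equiv.subtypeEquivRight fun k => by
    show (k ∈ S.O ∧ k * S.τ = S.τ * k) ↔ k ∈ S.A
    rw [S.mem_A]; exact and_congr_right fun _ => eq_comm)

theorem card_invs [Fintype G] : (invs S.σ 4 S.τ).card = Nat.card S.swap.A := by
  have h := card_invs_mul (N := 4) (σ := S.σ) (S.le_CJ S.hτ) S.τ_sq
  rw [show Nat.card {k : G // k ∈ kern S.σ 4 ∧ k * S.τ = S.τ * k} = Nat.card S.A from
    S.card_kern_centralizer, show Nat.card (kern S.σ 4) = Nat.card S.O from rfl, S.card_O,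
    mul_comm (Nat.card S.A)] at h
  exact Nat.eq_of_mul_eq_mul_right Nat.card_pos h

theorem card_CJτ : Nat.card (centralizer ({S.J, S.τ} : Set G)) = 4 * Nat.card S.A := by
  haveI := Fintype.ofFinite G
  have h := card_invs_refl S.rot S.hτ S.hτz
  rw [S.card_invs, show Nat.card (kern S.σ 4) = Nat.card S.O from rfl, S.card_O, ← mul_assoc] at h
  exact Nat.eq_of_mul_eq_mul_right Nat.card_pos h

/-- Four-subgroups of the Sylow subgroup have automisers of order divisible by three. -/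
theorem three_dvd {U : Subgroup G} (hU : U ≤ S.P) (hf : Dihedral.IsFour U) :
    3 ∣ (centralizer (U : Set G)).relIndex (normalizer (U : Set G)) := by
  by_contra h3
  obtain ⟨H, hH⟩ := (Dihedral.Coords.ofEquiv S.eP).exists_index_two (by norm_num) hU hf
    fun n hn hodd => Dihedral.commute_of_not_three hf h3 hn hodd
  exact S.hidx H hH

theorem one_class {i : G} (hi : orderOf i = 2) : IsConj S.J i :=
  (Dihedral.Coords.ofEquiv S.eP).isConj_of_three (by norm_num) (fun _ hU hf => S.three_dvd hU hf)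
    _ _ S.orderOf_J hi

/-- Elements of odd order commuting with `J` lie in the odd core. -/
theorem mem_O {v : G} (hJ : Commute S.J v) (hv : Odd (orderOf v)) : v ∈ S.O :=
  mem_kern_of_odd S.rot (mem_centralizer_singleton_iff.2 hJ.eq.symm) hv

/-- A rotation centralising a non-trivial element of the odd core is `1` or `J`. -/
theorem rot_cases {z w : G} (hz : z ∈ zpowers S.σ) (hw : w ∈ S.O) (hw1 : w ≠ 1) (h : Commute z w) :
    z = 1 ∨ z = S.J := by
  by_cases h1 : z = 1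
  · exact Or.inl h1
  by_cases h2 : z * z = 1
  · exact Or.inr (S.rot.eq_half hz h1 h2)
  exfalso
  apply hw1
  have h4 : z ^ (2 ^ (1 + 1)) = 1 := by
    obtain ⟨i, rfl⟩ := mem_zpowers_iff.1 hz
    rw [← zpow_natCast, ← zpow_mul, mul_comm, zpow_mul, zpow_natCast,
      show 2 ^ (1 + 1) = orderOf S.σ from S.rot.order.symm, pow_orderOf_eq_one, one_zpow]
  have ho : orderOf z = 4 :=
    orderOf_eq_prime_pow (p := 2) (n := 1) (by rwa [pow_one, pow_two]) h4
  obtain ⟨i, hi⟩ := mem_zpowers_iff.1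
    (mem_zpowers_of_order hz (mem_zpowers S.σ) (by rw [ho, S.rot.order]) (isOfFinOrder_of_finite _))
  exact S.eq_one_of_commute_σ hw (hi ▸ h.zpow_left i)

include S in
/-- A 2-group with a central involution centralising a non-trivial element of odd order has order
at most four. -/
theorem card_le_four {R : Subgroup G} (hR : IsPGroup 2 R) {v z : G} (hv : Odd (orderOf v))
    (hv1 : v ≠ 1) (hRv : ∀ r ∈ R, Commute r v) (hz : z ∈ R) (hz2 : orderOf z = 2)
    (hRz : ∀ r ∈ R, Commute r z) : Nat.card R ≤ 4 := by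
  haveI : Fact (Nat.Prime 2) := ⟨Nat.prime_two⟩
  obtain ⟨g, hg⟩ := isConj_iff.1 (S.one_class hz2).symm
  set φ := (MulAut.conj g).toMonoidHom
  have hφ : ∀ x, φ x = g * x * g⁻¹ := fun x => rfl
  have hle : R.map φ ≤ centralizer ({S.J} : Set G) := by
    rintro _ ⟨r, hr, rfl⟩
    rw [mem_centralizer_singleton_iff, ← hg, hφ]
    calc g * r * g⁻¹ * (g * z * g⁻¹) = g * (r * z) * g⁻¹ := by group
      _ = g * (z * r) * g⁻¹ := by rw [(hRz r hr).eq]
      _ = _ := by group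
  set C := centralizer ({S.J} : Set G)
  have hp : IsPGroup 2 ((R.map φ).subgroupOf C) :=
    (hR.map φ).of_injective (Subgroup.subgroupOfEquivOfLe hle).toMonoidHom
      (Subgroup.subgroupOfEquivOfLe hle).injective
  obtain ⟨c, hc⟩ := exists_conj_le hp (S.P.subtype S.le_CJ)
  set e : G := (c : G) * g with he
  set ψ := (MulAut.conj e).toMonoidHom
  have hψ : ∀ x, ψ x = e * x * e⁻¹ := fun x => rfl
  have hRP : R.map ψ ≤ (S.P : Subgroup G) := by
    rintro _ ⟨r, hr, rfl⟩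
    have := hc ⟨g * r * g⁻¹, hle ⟨r, hr, rfl⟩⟩ ⟨r, hr, rfl⟩
    rw [Sylow.coe_subtype, Subgroup.mem_subgroupOf] at this
    change (c : G) * (g * r * g⁻¹) * (c : G)⁻¹ ∈ _ at this
    rw [hψ, he]
    simpa [mul_assoc] using this
  set w := e * v * e⁻¹ with hw
  have hwo : Odd (orderOf w) := by
    rw [hw, show e * v * e⁻¹ = MulAut.conj e v from rfl, MulEquiv.orderOf_eq]; exact hv
  have hez : e * z * e⁻¹ = S.J := by
    have hcJ := mem_centralizer_singleton_iff.1 c.2
    calc e * z * e⁻¹ = (c : G) * (g * z * g⁻¹) * (c : G)⁻¹ := by rw [he]; group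
      _ = S.J := by rw [hg, hcJ, mul_inv_cancel_right]
  have hwJ : Commute S.J w := by
    rw [← hez, hw]
    exact (Commute.map (hRv z hz) (MulAut.conj e).toMonoidHom)
  have hwO := S.mem_O hwJ hwo
  have hw1 : w ≠ 1 := fun h => hv1 (conj_eq_one_iff.1 h)
  set Q := R.map ψ
  have hQ : Nat.card Q = Nat.card R :=
    (Nat.card_congr (R.equivMapOfInjective ψ (MulAut.conj e).injective).toEquiv).symm
  have hsmall : Nat.card (Q ⊓ zpowers S.σ : Subgroup G) ≤ 2 := by
    have hsub : ((Q ⊓ zpowers S.σ : Subgroup G) : Set G) ⊆ {1, S.J} := by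
      rintro x ⟨⟨r, hr, rfl⟩, hx⟩
      exact S.rot_cases hx hwO hw1 (Commute.map (hRv r hr) ψ)
    have := Set.ncard_le_ncard hsub (Set.toFinite _)
    rw [← Nat.card_coe_set_eq] at this
    exact this.trans (by simpa using Set.ncard_insert_le (1 : G) {S.J})
  have hrel : (zpowers S.σ).relIndex Q ≤ 2 := by
    have h2 : (zpowers S.σ).relIndex (S.P : Subgroup G) = 2 := by
      have := Subgroup.card_mul_index ((zpowers S.σ).subgroupOf (S.P : Subgroup G))
      rw [Nat.card_congr (Subgroup.subgroupOfEquivOfLe S.rot.zpowers_le).toEquiv, Nat.card_zpowers,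
        S.rot.order, S.rot.card] at this
      rw [Subgroup.relIndex]; omega
    rw [← h2]
    exact Subgroup.relIndex_le_of_le_right hRP (by rw [h2]; norm_num)
  have hmul := Subgroup.card_mul_index ((zpowers S.σ).subgroupOf Q)
  rw [show ((zpowers S.σ).subgroupOf Q).index = (zpowers S.σ).relIndex Q from rfl,
    ← Subgroup.inf_subgroupOf_left, Nat.card_congr (Subgroup.subgroupOfEquivOfLe inf_le_left).toEquiv,
    hQ] at hmul
  rw [← hmul]
  exact Nat.mul_le_mul hsmall hrel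

end Setup

end Cfsg.Agent.Lib.SmallCentralizer
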