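/-
The four-group `{1, J, τ, τ J}` and the centraliser of an element of the part `A` of the odd core.
-/
import Cfsg.Agent.Lib.SmallCentralizer.Basic
import Cfsg.Agent.S0948
import Cfsg.Agent.S4479

set_option autoImplicit false

namespace Cfsg.Agent.Lib.SmallCentralizer

open Subgroup Cfsg.Agent.Lib.DihedralBlock Cfsg.Agent.Lib.DihedralBlock.Sections
open Cfsg.Agent.Lib.DihedralBlock.Order Cfsg.Agent.Lib.Fusion

universe u

namespace Setup

variable {G : Type u} [Group G] [Finite G] (S : Setup G)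

/-- The four-group of `τ`. -/
def U : Subgroup G := (S.P : Subgroup G) ⊓ centralizer ({S.τ} : Set G)

theorem mem_U {p : G} : p ∈ S.U ↔ p ∈ (S.P : Subgroup G) ∧ Commute S.τ p := by
  simp only [U, Subgroup.mem_inf, mem_centralizer_singleton_iff]
  exact ⟨fun h => ⟨h.1, h.2.symm⟩, fun h => ⟨h.1, h.2.symm⟩⟩

theorem U_le : S.U ≤ (S.P : Subgroup G) := inf_le_left

theorem J_mem_U : S.J ∈ S.U := S.mem_U.2 ⟨S.J_mem, (S.J_comm_of_mem S.hτ).symm⟩

theorem τ_mem_U : S.τ ∈ S.U := S.mem_U.2 ⟨S.hτ, Commute.refl _⟩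

theorem U_cases {p : G} (hp : p ∈ S.U) :
    p = 1 ∨ p = S.J ∨ p = S.τ ∨ p = S.τ * S.J := by
  obtain ⟨hpP, hc⟩ := S.mem_U.1 hp
  have key : ∀ z ∈ zpowers S.σ, Commute S.τ z → z = 1 ∨ z = S.J := by
    intro z hz hzc
    by_cases h1 : z = 1
    · exact Or.inl h1
    · refine Or.inr (S.rot.eq_half hz h1 (by_contra fun hne => S.hτz ?_))
      exact S.rot.centralizer_le S.hτ hz hne hzc.eq
  by_cases hz : p ∈ zpowers S.σ
  · rcases key p hz hc with h | h <;> simp [h]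
  · have hp' : p = S.τ * (S.τ * p) := by rw [← mul_assoc, S.τ_sq, one_mul]
    rcases key _ (S.rot.prod_mem S.τ S.hτ p hpP S.hτz hz) ((Commute.refl _).mul_right hc) with h | h <;>
      rw [h] at hp'
    · simp [hp']
    · exact Or.inr (Or.inr (Or.inr hp'))

theorem U_sq {p : G} (hp : p ∈ S.U) : p * p = 1 := by
  rcases S.U_cases hp with rfl | rfl | rfl | rfl
  · simp
  · exact S.J_sq
  · exact S.τ_sq
  · rw [(S.J_comm_of_mem S.hτ).mul_mul_mul_comm, S.τ_sq, S.J_sq, one_mul]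
    

theorem τJ_ne : S.τ * S.J ≠ 1 := fun h => S.τ_ne_J (by
  rw [eq_inv_of_mul_eq_one_left h, inv_eq_of_mul_eq_one_right S.J_sq])

theorem card_U : Nat.card S.U = 4 := by
  have hset : (S.U : Set G) = {1, S.J, S.τ, S.τ * S.J} := by
    ext p
    refine ⟨fun h => by simpa using S.U_cases h, ?_⟩
    simp only [Set.mem_insert_iff, Set.mem_singleton_iff, SetLike.mem_coe]
    rintro (rfl | rfl | rfl | rfl)
    exacts [one_mem _, S.J_mem_U, S.τ_mem_U, mul_mem S.τ_mem_U S.J_mem_U]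
  show Nat.card (S.U : Set G) = 4
  rw [hset, Nat.card_coe_set_eq,
    Set.ncard_insert_of_notMem (by simp [S.J_ne.symm, S.τ_ne.symm, S.τJ_ne.symm]),
    Set.ncard_insert_of_notMem (by simp [S.τ_ne_J.symm, S.τ_ne]),
    Set.ncard_pair (fun e => S.J_ne (by simpa using e))]

theorem isFour_U : Dihedral.IsFour S.U := ⟨S.card_U, fun _ hx => S.U_sq hx⟩

theorem σ_U {y : G} (hy : y = S.τ ∨ y = S.τ * S.J) : S.σ * y * S.σ⁻¹ = y * S.J := by
  have hJ : S.J = S.σ * S.σ := pow_two S.σ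
  have h1 : S.σ * S.τ * S.σ⁻¹ = S.τ * S.J := by
    have h' : S.τ * (S.σ * S.σ) = (S.σ * S.σ) * S.τ := by
      rw [← hJ]; exact (S.J_comm_of_mem S.hτ).eq.symm
    rw [hJ, h']
    calc S.σ * S.τ * S.σ⁻¹ = S.σ * S.τ * (S.τ * S.σ * S.τ⁻¹) := by rw [S.τσ]
      _ = S.σ * (S.τ * S.τ) * S.σ * S.τ⁻¹ := by group
      _ = S.σ * S.σ * S.τ := by rw [S.τ_sq, S.τ_inv]; group
  rcases hy with rfl | rfl
  · exact h1
  · rw [show S.σ * (S.τ * S.J) * S.σ⁻¹ = (S.σ * S.τ * S.σ⁻¹) * (S.σ * S.J * S.σ⁻¹) by group, h1,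
      ← (S.J_comm_of_mem S.rot.mem).eq, mul_inv_cancel_right]

theorem ne_of_mem_U {y : G} (hy : y ∈ S.U) (h1 : y ≠ 1) (hJ : y ≠ S.J) :
    y = S.τ ∨ y = S.τ * S.J := by
  rcases S.U_cases hy with h | h | h | h
  exacts [absurd h h1, absurd h hJ, Or.inl h, Or.inr h]

theorem commute_U {a p : G} (ha : a ∈ S.A) (hp : p ∈ S.U) : Commute p a := by
  obtain ⟨haO, hc⟩ := S.mem_A.1 ha
  rcases S.U_cases hp with rfl | rfl | rfl | rfl
  exacts [Commute.one_left _, S.commute_J haO, hc, hc.mul_left (S.commute_J haO)]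

theorem normalizer_A {m a : G} (hm : m ∈ normalizer (S.U : Set G)) (ha : a ∈ S.A) :
    m * a * m⁻¹ ∈ S.A := by
  have hc : ∀ p ∈ S.U, Commute p (m * a * m⁻¹) := fun p hp => by
    have hp' : m⁻¹ * p * m ∈ S.U := by
      have := (mem_normalizer_iff.1 (inv_mem hm) p).1 hp
      simpa using this
    have h := (S.commute_U ha hp').map (MulAut.conj m).toMonoidHom
    simpa [mul_assoc] using h
  refine S.mem_A.2 ⟨S.mem_O (hc _ S.J_mem_U) ?_, hc _ S.τ_mem_U⟩
  rw [show m * a * m⁻¹ = MulAut.conj m a from rfl, MulEquiv.orderOf_eq]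
  exact kern_odd (S.A_le ha)

/-- An element permuting the involutions of `U` cyclically and centralising `A`. -/
theorem exists_three_cycle : ∃ h y : G, (y = S.τ ∨ y = S.τ * S.J) ∧ h * S.J * h⁻¹ = y * S.J ∧
    h * (y * S.J) * h⁻¹ = y ∧ ∀ a ∈ S.A, Commute h a := by
  obtain ⟨n, hn, hnJ⟩ : ∃ n ∈ normalizer (S.U : Set G), n * S.J * n⁻¹ ≠ S.J := by
    have h3 := S.three_dvd S.U_le S.isFour_U
    rw [Dihedral.relIndex_eq_card_range] at h3
    haveI : Fact (Nat.Prime 3) := ⟨Nat.prime_three⟩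
    obtain ⟨π, hπ⟩ := exists_prime_orderOf_dvd_card' 3 h3
    obtain ⟨⟨π', n, hn⟩, rfl⟩ : ∃ π' : (Dihedral.autPerm S.U).range, π' = π := ⟨π, rfl⟩
    rw [← Subgroup.orderOf_coe] at hπ
    refine ⟨n, n.2, fun e => ?_⟩
    have hfix : π' ⟨S.J, S.J_mem_U, S.J_ne⟩ = ⟨S.J, S.J_mem_U, S.J_ne⟩ := by
      rw [← hn]; exact Subtype.ext e
    have h := Dihedral.perm_three (Dihedral.card_nontriv S.isFour_U) π' hπ
      ⟨S.J, S.J_mem_U, S.J_ne⟩ ⟨S.τ, S.τ_mem_U, S.τ_ne⟩
    rw [hfix, hfix, or_self, or_self] at h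
    exact S.τ_ne_J (congrArg Subtype.val h).symm
  set y := n * S.J * n⁻¹ with hy
  have hyU : y ∈ S.U := (mem_normalizer_iff.1 hn _).1 S.J_mem_U
  have hy' := S.ne_of_mem_U hyU (fun e => S.J_ne (conj_eq_one_iff.1 e)) hnJ
  set u := n⁻¹ * S.J * n with hu
  have huU : u ∈ S.U := by
    have := (mem_normalizer_iff.1 (inv_mem hn) _).1 S.J_mem_U
    simpa [hu] using this
  have hu' := S.ne_of_mem_U huU
    (fun e => S.J_ne (by
      have := congrArg (fun z => n * z * n⁻¹) e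
      simpa [hu, mul_assoc] using this))
    (fun e => hnJ (by
      have := congrArg (fun z => n * z * n⁻¹) e
      simpa [hu, hy, mul_assoc] using this.symm))
  have hσJ : S.σ * S.J * S.σ⁻¹ = S.J := by
    rw [← (S.J_comm_of_mem S.rot.mem).eq, mul_inv_cancel_right]
  refine ⟨n * S.σ * n⁻¹ * S.σ⁻¹, y, hy', ?_, ?_, fun a ha => ?_⟩
  · calc n * S.σ * n⁻¹ * S.σ⁻¹ * S.J * (n * S.σ * n⁻¹ * S.σ⁻¹)⁻¹
        = n * S.σ * (n⁻¹ * (S.σ⁻¹ * S.J * S.σ) * n) * S.σ⁻¹ * n⁻¹ := by group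
      _ = n * (S.σ * u * S.σ⁻¹) * n⁻¹ := by
          rw [show S.σ⁻¹ * S.J * S.σ = S.J by
            rw [mul_assoc, (S.J_comm_of_mem S.rot.mem).eq, inv_mul_cancel_left], hu]
          group
      _ = n * (u * S.J) * n⁻¹ := by rw [S.σ_U hu']
      _ = S.J * y := by rw [hu, hy]; group
      _ = y * S.J := (S.J_comm_of_mem (S.U_le hyU)).eq
  · have hs : S.σ⁻¹ * (y * S.J) * S.σ = y := by
      rw [← S.σ_U hy']; group
    calc n * S.σ * n⁻¹ * S.σ⁻¹ * (y * S.J) * (n * S.σ * n⁻¹ * S.σ⁻¹)⁻¹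
        = n * S.σ * (n⁻¹ * (S.σ⁻¹ * (y * S.J) * S.σ) * n) * S.σ⁻¹ * n⁻¹ := by group
      _ = n * (S.σ * S.J * S.σ⁻¹) * n⁻¹ := by rw [hs, hy]; group
      _ = y := by rw [hσJ]
  · refine mul_inv_eq_iff_eq_mul.1 ?_
    have hb : n⁻¹ * a⁻¹ * n ∈ S.A := by
      have := S.normalizer_A (inv_mem hn) (inv_mem ha)
      simpa using this
    calc n * S.σ * n⁻¹ * S.σ⁻¹ * a * (n * S.σ * n⁻¹ * S.σ⁻¹)⁻¹
        = n * S.σ * (n⁻¹ * (S.σ⁻¹ * a * S.σ) * n) * S.σ⁻¹ * n⁻¹ := by group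
      _ = n * (S.σ * (n⁻¹ * a⁻¹ * n) * S.σ⁻¹) * n⁻¹ := by
          rw [show S.σ⁻¹ * a * S.σ = a⁻¹ by
            have h := S.σ_inverts (inv_mem (S.A_le ha))
            rw [inv_inv] at h
            calc S.σ⁻¹ * a * S.σ = S.σ⁻¹ * (S.σ * a⁻¹ * S.σ⁻¹) * S.σ := by rw [h]
              _ = a⁻¹ := by group]
          group
      _ = a := by rw [S.σ_inverts (S.A_le hb)]; group

variable {v : G}

theorem U_le_K (hv : v ∈ S.A) : S.U ≤ centralizer ({v} : Set G) := fun _ hp =>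
  mem_centralizer_singleton_iff.2 (S.commute_U hv hp).eq

theorem O_le_K (hv : v ∈ S.A) : S.O ≤ centralizer ({v} : Set G) := fun _ hk =>
  mem_centralizer_singleton_iff.2 (S.O_comm hk (S.A_le hv)).eq

theorem mem_U_of_commute (hv : v ∈ S.A) (hv1 : v ≠ 1) {p : G} (hp : p ∈ (S.P : Subgroup G))
    (hc : Commute p v) : p ∈ S.U := by
  have hvO := S.A_le hv
  have hJU := S.J_mem_U
  by_cases hz : p ∈ zpowers S.σ
  · rcases S.rot_cases hz hvO hv1 hc with rfl | rfl
    exacts [one_mem _, hJU]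
  · have hz' := S.rot.prod_mem S.τ S.hτ p hp S.hτz hz
    have hp' : p = S.τ * (S.τ * p) := by rw [← mul_assoc, S.τ_sq, one_mul]
    rw [hp']
    rcases S.rot_cases hz' hvO hv1 ((S.mem_A.1 hv).2.mul_left hc) with h | h <;> rw [h]
    exacts [mul_mem S.τ_mem_U (one_mem _), mul_mem S.τ_mem_U hJU]

theorem card_CJv (hv : v ∈ S.A) (hv1 : v ≠ 1) :
    Nat.card (centralizer ({S.J, v} : Set G)) = 4 * Nat.card S.O := by
  rw [← S.card_U, mul_comm, ← Nat.card_prod]
  refine (Nat.card_congr (Equiv.ofBijective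
    (fun x : S.O × S.U => (⟨(x.1 : G) * x.2, ?_⟩ : centralizer ({S.J, v} : Set G))) ⟨?_, ?_⟩)).symm
  · rw [mem_centralizer_iff]
    rintro z (rfl | rfl)
    · exact ((S.commute_J x.1.2).mul_right (S.J_comm_of_mem (S.U_le x.2.2))).eq
    · exact ((S.O_comm (S.A_le hv) x.1.2).mul_right (S.commute_U hv x.2.2).symm).eq
  · rintro ⟨⟨k, hk⟩, ⟨p, hp⟩⟩ ⟨⟨k', hk'⟩, ⟨p', hp'⟩⟩ e
    have e' : k * p = k' * p' := congrArg Subtype.val e
    have hpp : p = p' := coset_unique S.rot (S.U_le hp) (S.U_le hp') (by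
      have : p * p'⁻¹ = k⁻¹ * k' := by
        calc p * p'⁻¹ = k⁻¹ * (k * p) * p'⁻¹ := by group
          _ = _ := by rw [e']; group
      rw [this]; exact mul_mem (inv_mem hk) hk')
    subst hpp
    exact Prod.ext (Subtype.ext (mul_right_cancel e')) rfl
  · rintro ⟨x, hx⟩
    rw [mem_centralizer_iff] at hx
    obtain ⟨p, hp, hk⟩ := exists_coset S.rot
      (mem_centralizer_singleton_iff.2 (hx S.J (by simp)).symm : x ∈ centralizer ({S.J} : Set G))
    have hxv : Commute x v := (hx v (by simp)).symm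
    have hpv : Commute p v := by
      have h := (S.O_comm (inv_mem hk) (S.A_le hv)).mul_left hxv
      rwa [mul_inv_rev, inv_inv, inv_mul_cancel_right] at h
    exact ⟨(⟨x * p⁻¹, hk⟩, ⟨p, S.mem_U_of_commute hv hv1 hp hpv⟩),
      Subtype.ext (inv_mul_cancel_right x p)⟩

theorem commute_of_CJτ (hv : v ∈ S.A) {x : G} (hxJ : Commute S.J x) (hxτ : Commute S.τ x) :
    Commute x v := by
  obtain ⟨p, hp, hk⟩ := exists_coset S.rot
    (mem_centralizer_singleton_iff.2 hxJ.eq.symm : x ∈ centralizer ({S.J} : Set G))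
  have hτC := S.le_CJ S.hτ
  have h1 : S.τ * x * (S.τ * p)⁻¹ ∈ S.O :=
    coset_mul hτC (by rw [mul_inv_cancel]; exact one_mem _) hk
  have h2 : x * S.τ * (p * S.τ)⁻¹ ∈ S.O :=
    coset_mul (S.le_CJ hp) hk (by rw [mul_inv_cancel]; exact one_mem _)
  rw [hxτ.eq] at h1
  have hpτ : S.τ * p = p * S.τ := coset_unique S.rot (mul_mem S.hτ hp) (mul_mem hp S.hτ) (by
    have := mul_mem (inv_mem h1) h2
    simpa [mul_assoc] using this)
  have hpU : p ∈ S.U := S.mem_U.2 ⟨hp, hpτ⟩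
  have := (S.O_comm hk (S.A_le hv)).mul_left (S.commute_U hv hpU)
  rwa [inv_mul_cancel_right] at this

/-- The order of the centraliser of a non-trivial element of `A`. -/
theorem card_K {M : Ideal Cfsg.AlgInt} (hM : Cfsg.IsPModular 2 M) (hv : v ∈ S.A) (hv1 : v ≠ 1) :
    12 * Nat.card S.A * Nat.card S.swap.A ^ 3 ≤ Nat.card (centralizer ({v} : Set G)) ∧
      4 * Nat.card S.A * Nat.card S.swap.A ∣ Nat.card (centralizer ({v} : Set G)) ∧
      (∀ i : centralizer ({v} : Set G), orderOf i = 2 →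
        IsConj (⟨S.J, S.U_le_K hv S.J_mem_U⟩ : centralizer ({v} : Set G)) i) ∧
      ¬ 8 ∣ Nat.card (centralizer ({v} : Set G)) := by
  haveI : Fact (Nat.Prime 2) := ⟨Nat.prime_two⟩
  set K := centralizer ({v} : Set G)
  have hUK := S.U_le_K hv
  have hvo := kern_odd (S.A_le hv)
  have hU2 : IsPGroup 2 (S.U.subgroupOf K) := IsPGroup.of_card (n := 2) (by
    rw [Nat.card_congr (Subgroup.subgroupOfEquivOfLe hUK).toEquiv, S.card_U]; norm_num)
  obtain ⟨Q, hQ⟩ := hU2.exists_le_sylow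
  have hUcard : Nat.card (S.U.subgroupOf K) = 4 := by
    rw [Nat.card_congr (Subgroup.subgroupOfEquivOfLe hUK).toEquiv, S.card_U]
  have hQ4 : Nat.card (Q : Subgroup K) ≤ 4 := by
    haveI : Nontrivial (Q : Subgroup K) := by
      rw [← Finite.one_lt_card_iff_nontrivial]
      have := Subgroup.card_le_of_le hQ
      omega
    haveI := Q.2.center_nontrivial
    obtain ⟨j, hj⟩ := (Q.2.to_subgroup (center (Q : Subgroup K))).exists_card_eq
    have hj0 : j ≠ 0 := fun h => by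
      have := Finite.one_lt_card_iff_nontrivial.2 (inferInstance : Nontrivial (center (Q : Subgroup K)))
      rw [hj, h, pow_zero] at this
      omega
    obtain ⟨z, hz⟩ := exists_prime_orderOf_dvd_card' (G := center (Q : Subgroup K)) 2
      (hj ▸ dvd_pow_self 2 hj0)
    rw [← Subgroup.card_map_of_injective (f := K.subtype) (K := (Q : Subgroup K)) Subtype.val_injective]
    refine S.card_le_four (Q.2.map K.subtype) (z := ((z : (Q : Subgroup K)) : K)) hvo hv1 ?_ ?_ ?_ ?_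
    · rintro _ ⟨r, -, rfl⟩
      exact mem_centralizer_singleton_iff.1 r.2
    · exact ⟨_, (z : (Q : Subgroup K)).2, rfl⟩
    · rw [Subgroup.orderOf_coe, Subgroup.orderOf_coe, Subgroup.orderOf_coe, hz]
    · rintro _ ⟨r, hr, rfl⟩
      exact congrArg (fun x : (Q : Subgroup K) => ((x : K) : G))
        (Subgroup.mem_center_iff.1 z.2 ⟨r, hr⟩)
  have hQU : (Q : Subgroup K) = S.U.subgroupOf K :=
    (Subgroup.eq_of_le_of_card_ge hQ (by omega)).symm
  have hQ4' : Nat.card (Q : Subgroup K) = 4 := by rw [hQU, hUcard]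
  have hKQ : Nat.card K = 4 * (Q : Subgroup K).index := by
    rw [← hQ4', Subgroup.card_mul_index]
  have hg₀ : Odd (Q : Subgroup K).index := Nat.odd_iff.2 (Nat.two_dvd_ne_zero.1 Q.not_dvd_index)
  let JK : K := ⟨S.J, hUK S.J_mem_U⟩
  obtain ⟨h, y, hy, h1, h2, hhA⟩ := S.exists_three_cycle
  let hK : K := ⟨h, mem_centralizer_singleton_iff.2 (hhA v hv).eq⟩
  have hone : ∀ i : K, orderOf i = 2 → IsConj JK i := by
    intro i hi
    obtain ⟨c, hc⟩ := exists_conj_le
      (IsPGroup.of_card (n := 1) (by rw [Nat.card_zpowers, hi, pow_one]) : IsPGroup 2 (zpowers i)) Q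
    have hci := hc i (mem_zpowers i)
    rw [hQU, Subgroup.mem_subgroupOf] at hci
    refine IsConj.trans ?_ (isConj_iff.2 ⟨c, rfl⟩ : IsConj i (c * i * c⁻¹)).symm
    have hoi : orderOf ((c * i * c⁻¹ : K) : G) = 2 := by
      rw [Subgroup.orderOf_coe, show c * i * c⁻¹ = MulAut.conj c i from rfl, MulEquiv.orderOf_eq, hi]
    have hne1 : ((c * i * c⁻¹ : K) : G) ≠ 1 := fun e => by rw [e, orderOf_one] at hoi; norm_num at hoi
    by_cases hJ : ((c * i * c⁻¹ : K) : G) = S.J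
    · rw [show JK = c * i * c⁻¹ from Subtype.ext hJ.symm]
    have hc' := S.ne_of_mem_U hci hne1 hJ
    have hs : ∀ w : K, ((w : G) = y * S.J ∨ (w : G) = y) → IsConj JK w := by
      rintro w (hw | hw)
      · exact isConj_iff.2 ⟨hK, Subtype.ext (h1.trans hw.symm)⟩
      · refine isConj_iff.2 ⟨hK * hK, Subtype.ext ?_⟩
        show h * h * S.J * (h * h)⁻¹ = (w : G)
        calc h * h * S.J * (h * h)⁻¹ = h * (h * S.J * h⁻¹) * h⁻¹ := by group
          _ = _ := by rw [h1, h2, hw]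
    refine hs _ ?_
    rcases hy with rfl | rfl <;> rcases hc' with e | e
    · exact Or.inr e
    · exact Or.inl e
    · refine Or.inl ?_
      rw [e, mul_assoc, S.J_sq, mul_one]
    · exact Or.inr e
  have hKL : IsKleinFour (Q : Subgroup K) := by
    refine Dihedral.isFour_iff.1 ⟨hQ4', fun x hx => ?_⟩
    rw [hQU, Subgroup.mem_subgroupOf] at hx
    exact Subtype.ext (S.U_sq hx)
  have hJ2 : orderOf JK = 2 := by rw [← Subgroup.orderOf_coe]; exact S.orderOf_J
  obtain ⟨z2, z3, z4, ε, hε, n2, n3, d23, d24, d34, hB, hval, c2, c3, c4, hrel⟩ :=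
    Cfsg.Agent.S0948.result M hM Q hKL (fun s t hs ht => (hone s hs).symm.trans (hone t ht))
  have n4 : (z4 : K → ℂ) ≠ fun _ => 1 := fun e => by
    have := (hval JK hJ2).2.2
    rw [e] at this
    norm_num at this
  have hnc : ¬ ∃ N : Subgroup K, N.Normal ∧ Nat.card N = (Q : Subgroup K).index := by
    rintro ⟨N, hN, hcard⟩
    have hi4 : N.index = 2 ^ 2 := by
      have h0 := N.card_mul_index
      rw [hcard, hKQ, mul_comm] at h0
      exact Nat.eq_of_mul_eq_mul_right (hcard ▸ Nat.card_pos : 0 < (Q : Subgroup K).index) h0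
    haveI := hN
    have hcomm : ∀ a b : K ⧸ N, a * b = b * a :=
      (IsPGroup.isMulCommutative_of_card_eq_prime_sq (p := 2) (by rw [← Subgroup.index_eq_card, hi4])).is_comm.comm
    have hmem : JK * (hK * JK * hK⁻¹) ∈ N := by
      refine (QuotientGroup.eq_one_iff (N := N) _).1 ?_
      rw [QuotientGroup.mk_mul, QuotientGroup.mk_mul, QuotientGroup.mk_mul, QuotientGroup.mk_inv,
        hcomm (hK : K ⧸ N) (JK : K ⧸ N), mul_inv_cancel_right, ← QuotientGroup.mk_mul,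
        show JK * JK = 1 from Subtype.ext S.J_sq, QuotientGroup.mk_one]
    have hyy : y * y = 1 := S.U_sq (by
      rcases hy with rfl | rfl
      exacts [S.τ_mem_U, mul_mem S.τ_mem_U S.J_mem_U])
    have hv' : ((JK * (hK * JK * hK⁻¹) : K) : G) = y := by
      show S.J * (h * S.J * h⁻¹) = y
      rw [h1, (S.J_comm_of_mem (S.U_le ?_)).eq, mul_assoc, S.J_sq, mul_one]
      rcases hy with rfl | rfl
      exacts [mul_mem S.τ_mem_U S.J_mem_U, mul_mem (mul_mem S.τ_mem_U S.J_mem_U) S.J_mem_U]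
    have h2' : orderOf (JK * (hK * JK * hK⁻¹)) = 2 := by
      rw [← Subgroup.orderOf_coe, hv']
      refine orderOf_eq_prime (by rw [pow_two, hyy]) ?_
      rcases hy with rfl | rfl
      exacts [S.τ_ne, S.τJ_ne]
    have := Subgroup.orderOf_dvd_natCard N hmem
    rw [h2', hcard] at this
    exact Q.not_dvd_index this
  have hcJ : Nat.card (centralizer ({JK} : Set K)) = 4 * Nat.card S.O := by
    rw [← S.card_CJv hv hv1]
    refine Nat.card_congr
      { toFun := fun x => ⟨((x : K) : G), ?_⟩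
        invFun := fun x => ⟨⟨x, ?_⟩, ?_⟩
        left_inv := fun _ => rfl
        right_inv := fun _ => rfl }
    · rw [mem_centralizer_iff]
      rintro w (rfl | rfl)
      · exact (congrArg Subtype.val (mem_centralizer_singleton_iff.1 x.2)).symm
      · exact (mem_centralizer_singleton_iff.1 (x : K).2).symm
    · exact mem_centralizer_singleton_iff.2 (mem_centralizer_iff.1 x.2 v (by simp)).symm
    · exact mem_centralizer_singleton_iff.2
        (Subtype.ext (mem_centralizer_iff.1 x.2 S.J (by simp)).symm)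
  have hcP : Nat.card (centralizer ((Q : Subgroup K) : Set K)) = 4 * Nat.card S.A := by
    rw [← S.card_CJτ]
    refine Nat.card_congr
      { toFun := fun x => ⟨((x : K) : G), ?_⟩
        invFun := fun x => ⟨⟨x, ?_⟩, ?_⟩
        left_inv := fun _ => rfl
        right_inv := fun _ => rfl }
    · rw [mem_centralizer_iff]
      rintro w (rfl | rfl)
      · exact congrArg Subtype.val (mem_centralizer_iff.1 x.2 JK (hQ (mem_subgroupOf.2 S.J_mem_U)))
      · exact congrArg Subtype.val (mem_centralizer_iff.1 x.2 ⟨S.τ, hUK S.τ_mem_U⟩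
          (hQ (mem_subgroupOf.2 S.τ_mem_U)))
    · exact mem_centralizer_singleton_iff.2 (S.commute_of_CJτ hv
        (mem_centralizer_iff.1 x.2 S.J (by simp)) (mem_centralizer_iff.1 x.2 S.τ (by simp))).eq
    · rw [mem_centralizer_iff]
      intro w hw
      rw [hQU] at hw
      refine Subtype.ext ?_
      show (w : G) * x = x * (w : G)
      have hxJ : Commute S.J (x : G) := mem_centralizer_iff.1 x.2 S.J (by simp)
      have hxτ : Commute S.τ (x : G) := mem_centralizer_iff.1 x.2 S.τ (by simp)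
      rcases S.U_cases (mem_subgroupOf.1 hw) with e | e | e | e <;> rw [e]
      exacts [(Commute.one_left _).eq, hxJ.eq, hxτ.eq, (hxτ.mul_left hxJ).eq]
  refine ⟨?_, ?_, hone, ?_⟩
  · have hF := Cfsg.Agent.S4479.result M hM _ hg₀ hKQ hnc Q JK
      (hQ (mem_subgroupOf.2 S.J_mem_U)) hJ2 z2 z3 z4 1 ε (-1) hB ⟨n2, n3, n4, d23, d24, d34⟩
      ⟨Or.inl rfl, hε, Or.inr rfl⟩
      (by obtain ⟨a, b, c⟩ := hval JK hJ2; exact ⟨by simpa using a, b, by simpa using c⟩)
    rw [hcJ, hcP, S.card_O] at hF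
    have hr := hrel 1 (by simp)
    simp only [Cfsg.Agent.Lib.Blocks.char_one_eq_degree] at hr
    set x2 := Cfsg.charDegree (z2 : K → ℂ)
    set x3 := Cfsg.charDegree (z3 : K → ℂ)
    set x4 := Cfsg.charDegree (z4 : K → ℂ)
    have hr' : (1 : ℤ) + x2 + ε * x3 - x4 = 0 := by exact_mod_cast hr
    have p2 : 0 < x2 := Cfsg.Agent.Lib.Blocks.charDegree_pos z2
    have p3 : 0 < x3 := Cfsg.Agent.Lib.Blocks.charDegree_pos z3
    have p4 : 0 < x4 := Cfsg.Agent.Lib.Blocks.charDegree_pos z4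
    have key : (3 : ℚ) / 8 ≤ (x2 : ℚ) * x3 * x4 /
        (((x2 : ℚ) + ((1 : ℤ) : ℚ)) * ((x3 : ℚ) + (ε : ℚ)) * ((x4 : ℚ) + ((-1 : ℤ) : ℚ))) := by
      push_cast
      rw [← sub_eq_add_neg]
      have q4 : (3 : ℚ) ≤ x4 := by exact_mod_cast (by omega : 3 ≤ x4)
      have q2 : (1 : ℚ) ≤ x2 := by exact_mod_cast p2
      rcases hε with rfl | rfl
      · have q3 : (1 : ℚ) ≤ x3 := by exact_mod_cast p3
        push_cast
        rw [le_div_iff₀ (mul_pos (mul_pos (by linarith) (by linarith)) (by linarith))]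
        by_cases hb : x2 = 1 ∧ x3 = 1
        · have h4 : x4 = 3 := by omega
          rw [hb.1, hb.2, h4]; norm_num
        · have h5 : (5 : ℚ) ≤ x2 ∨ (5 : ℚ) ≤ x3 := by
            rcases (show 5 ≤ x2 ∨ 5 ≤ x3 by omega) with h | h
            · exact Or.inl (by exact_mod_cast h)
            · exact Or.inr (by exact_mod_cast h)
          rcases h5 with h | h
          · have e : 3 / 8 * (((x2 : ℚ) + 1) * ((x3 : ℚ) + 1)) ≤ (x2 : ℚ) * x3 := by nlinarith
            nlinarith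
          · have e : 3 / 8 * (((x2 : ℚ) + 1) * ((x3 : ℚ) + 1)) ≤ (x2 : ℚ) * x3 := by nlinarith
            nlinarith
      · have q3 : (3 : ℚ) ≤ x3 := by exact_mod_cast (by omega : 3 ≤ x3)
        push_cast
        rw [le_div_iff₀ (mul_pos (mul_pos (by linarith) (by linarith)) (by linarith))]
        have e2 : 3 / 8 * ((x2 : ℚ) + 1) ≤ x2 := by linarith
        have e34 : ((x3 : ℚ) + -1) * ((x4 : ℚ) - 1) ≤ (x3 : ℚ) * x4 := by nlinarith
        nlinarith [mul_le_mul e2 e34 (by nlinarith) (by linarith)]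
    have ha : (0 : ℚ) < Nat.card S.A := by exact_mod_cast Nat.card_pos
    have hb : (0 : ℚ) < Nat.card S.swap.A := by exact_mod_cast Nat.card_pos
    have : (12 : ℚ) * Nat.card S.A * (Nat.card S.swap.A : ℚ) ^ 3 ≤ Nat.card K := by
      rw [hF]
      push_cast
      rw [le_div_iff₀ (by positivity)]
      push_cast at key
      calc (12 : ℚ) * Nat.card S.A * (Nat.card S.swap.A : ℚ) ^ 3 * (4 * (Nat.card S.A : ℚ)) ^ 2
          = 8 * (3 / 8) * (4 * ((Nat.card S.A : ℚ) * Nat.card S.swap.A)) ^ 3 := by ring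
        _ ≤ _ := by gcongr
    exact_mod_cast this
  · rw [mul_assoc, ← S.card_O, ← hcJ]
    exact Subgroup.card_subgroup_dvd_card _
  · rw [hKQ]
    intro hd
    exact Q.not_dvd_index (Nat.dvd_of_mul_dvd_mul_left (by norm_num : 0 < 4)
      (show 4 * 2 ∣ 4 * (Q : Subgroup K).index from hd))

end Setup

end Cfsg.Agent.Lib.SmallCentralizer
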