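/-
Characters in the principal 2-block: the degree bound and the two order equations.
-/
import Cfsg.Agent.Lib.SmallCentralizer.FourGroup
import Cfsg.Agent.Lib.SmallCentralizer.Arith
import Cfsg.Agent.Lib.Characters.Diag
import Cfsg.Agent.Lib.Characters.Kernel
import Cfsg.Agent.S4481
import Cfsg.Agent.S4482

set_option autoImplicit false

namespace Cfsg.Agent.Lib.SmallCentralizer

open Subgroup Cfsg.Agent.Lib.DihedralBlock Cfsg.Agent.Lib.DihedralBlock.Sections
open Cfsg.Agent.Lib.DihedralBlock.Order Cfsg.Agent.Lib.Characters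
open scoped ComplexConjugate

universe u

/-- Sums of powers of roots of unity. -/
theorem sum_pow_range {ι : Type*} [Fintype ι] (ζ : ι → ℂ) {m : ℕ} (hm : ∀ i, ζ i ^ m = 1) :
    ∑ j ∈ Finset.range m, ∑ i, ζ i ^ j =
      (m : ℂ) * (Finset.univ.filter fun i => ζ i = 1).card := by
  classical
  rw [Finset.sum_comm, Finset.sum_congr rfl (g := fun i => if ζ i = 1 then (m : ℂ) else 0) fun i _ => ?_]
  · rw [← Finset.sum_filter, Finset.sum_const, nsmul_eq_mul, mul_comm]
  · split_ifs with h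
    · simp [h]
    · rw [geom_sum_eq h, hm, sub_self, zero_div]

/-- A real sum of roots of unity of odd order, not all trivial, has two non-trivial terms. -/
theorem two_le_card_ne_one {ι : Type*} [Fintype ι] [DecidableEq ι] (ζ : ι → ℂ) {m : ℕ} (hm : Odd m)
    (hp : ∀ i, ζ i ^ m = 1) (hreal : conj (∑ i, ζ i) = ∑ i, ζ i)
    (hne : ∑ i, ζ i ≠ (Fintype.card ι : ℂ)) :
    2 ≤ (Finset.univ.filter fun i => ζ i ≠ 1).card := by
  rcases Nat.lt_or_ge (Finset.univ.filter fun i => ζ i ≠ 1).card 2 with hlt | hge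
  swap
  · exact hge
  exfalso
  rcases Nat.le_one_iff_eq_zero_or_eq_one.1 (Nat.lt_succ_iff.1 hlt) with h | h
  · apply hne
    rw [Finset.card_eq_zero, Finset.filter_eq_empty_iff] at h
    rw [Finset.sum_congr rfl (g := fun _ => (1 : ℂ)) fun i hi => not_not.1 (h hi)]
    simp
  · obtain ⟨i₀, hi₀⟩ := Finset.card_eq_one.1 h
    have hrest : ∀ i, i ≠ i₀ → ζ i = 1 := fun i hi => by
      by_contra hz
      have : i ∈ Finset.univ.filter fun i => ζ i ≠ 1 := Finset.mem_filter.2 ⟨Finset.mem_univ _, hz⟩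
      rw [hi₀, Finset.mem_singleton] at this
      exact hi this
    have hne1 : ζ i₀ ≠ 1 := by
      have : i₀ ∈ Finset.univ.filter fun i => ζ i ≠ 1 := by rw [hi₀]; exact Finset.mem_singleton_self _
      exact (Finset.mem_filter.1 this).2
    rw [← Finset.add_sum_erase _ _ (Finset.mem_univ i₀),
      Finset.sum_congr rfl (g := fun _ => (1 : ℂ)) (fun i hi => hrest i (Finset.ne_of_mem_erase hi)),
      Finset.sum_const, nsmul_eq_mul, mul_one, map_add, map_natCast, add_left_inj] at hreal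
    obtain ⟨l, hl⟩ := hm
    have h0 : ζ i₀ ≠ 0 := fun e => by
      have := hp i₀
      rw [e, zero_pow (by omega)] at this
      exact zero_ne_one this
    rw [Diag.conj_eq_inv_of_pow (by omega : m ≠ 0) (hp i₀)] at hreal
    have h2 : ζ i₀ * ζ i₀ = 1 := by
      conv_lhs => arg 2; rw [← hreal]
      exact mul_inv_cancel₀ h0
    have := hp i₀
    rw [hl, pow_succ, pow_mul, pow_two, h2, one_pow, one_mul] at this
    exact hne1 this

namespace Setup

variable {G : Type u} [Group G] [Finite G] (S : Setup G)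

/-- On the principal block a character is constant on an involution times an odd element. -/
theorem value_inv {M : Ideal Cfsg.AlgInt} (hM : Cfsg.IsPModular 2 M) {χ : Cfsg.IrrCharacter G}
    (hχ : χ ∈ Cfsg.principalBlock M G) {u w : G} (hu : orderOf u = 2) (hw : Odd (orderOf w))
    (hc : Commute u w) : (χ : G → ℂ) (u * w) = (χ : G → ℂ) S.J := by
  obtain ⟨g, hg⟩ := isConj_iff.1 (S.one_class hu).symm
  have hconj : IsConj (u * w) (S.J * (g * w * g⁻¹)) :=
    isConj_iff.2 ⟨g, by rw [← hg]; group⟩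
  rw [Basic.classFunction_apply_of_isConj (Basic.isClassFunction_irr χ) hconj]
  refine value_const M hM ⟨1, by rw [pow_one]; exact S.orderOf_J⟩ S.J_ne S.rot.complement_half.1 ?_
    (by rw [show g * w * g⁻¹ = MulAut.conj g w from rfl, MulEquiv.orderOf_eq]; exact hw) hχ
  rw [← hg]
  exact hc.map (MulAut.conj g).toMonoidHom

/-- A faithful member of the principal block has degree at least `10 - e`. -/
theorem degree_bound [IsSimpleGroup G] {M : Ideal Cfsg.AlgInt} (hM : Cfsg.IsPModular 2 M)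
    {χ : Cfsg.IrrCharacter G} (hχ : χ ∈ Cfsg.principalBlock M G) {v : G} (hv : v ∈ S.A) (hv1 : v ≠ 1)
    {e : ℤ} (he : e = 1 ∨ e = -1) (heJ : (χ : G → ℂ) S.J = e) {x : ℕ} (hx : (χ : G → ℂ) 1 = x)
    (hne : ∃ g, (χ : G → ℂ) g ≠ (χ : G → ℂ) 1) : 10 - e ≤ (x : ℤ) := by
  classical
  haveI := Fintype.ofFinite S.U
  obtain ⟨n, ρ, -, hρ⟩ := Basic.exists_rep χ
  have hvo := kern_odd (S.A_le hv)
  set m := orderOf v
  have hm : 0 < m := orderOf_pos v
  set E : Module.End ℂ (Fin n → ℂ) := (4 : ℂ)⁻¹ • ∑ p : S.U, ρ (p : G) with hE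
  have hEq : ∀ q : S.U, ρ (q : G) * E = E := by
    intro q
    rw [hE, mul_smul_comm, Finset.mul_sum]
    congr 1
    refine Fintype.sum_equiv (Equiv.mulLeft q) _ _ fun p => ?_
    simp [map_mul]
  have hEE : E * E = E := by
    conv_lhs => arg 1; rw [hE]
    rw [smul_mul_assoc, Finset.sum_mul, Finset.sum_congr rfl fun p _ => hEq p, Finset.sum_const,
      Finset.card_univ, ← Nat.card_eq_fintype_card, S.card_U, ← Nat.cast_smul_eq_nsmul ℂ, smul_smul]
    norm_num
  have hEv : Commute (ρ v) E := by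
    rw [hE]
    refine (Commute.sum_right _ _ _ fun (p : S.U) _ => ?_).smul_right _
    exact ((S.commute_U hv p.2).symm).map ρ
  set W := LinearMap.range E
  have hW : ∀ y ∈ W, ρ v y ∈ W := by
    rintro _ ⟨y, rfl⟩
    exact ⟨ρ v y, by rw [← Module.End.mul_apply, ← Module.End.mul_apply, hEv.eq]⟩
  have hEid : ∀ y ∈ W, E y = y := by
    rintro _ ⟨y, rfl⟩
    rw [← Module.End.mul_apply, hEE]
  set f : Module.End ℂ W := (ρ v).restrict hW with hf
  have hfj : ∀ (j : ℕ) (y : W), ((f ^ j) y : Fin n → ℂ) = ρ (v ^ j) y := by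
    intro j
    induction j with
    | zero => intro y; simp
    | succ j ih =>
      intro y
      rw [pow_succ', Module.End.mul_apply, pow_succ', map_mul, Module.End.mul_apply, ← ih]
      rfl
  have htr : ∀ j : ℕ, LinearMap.trace ℂ W (f ^ j) =
      (4 : ℂ)⁻¹ * ∑ p : S.U, (χ : G → ℂ) ((p : G) * v ^ j) := by
    intro j
    set g' : (Fin n → ℂ) →ₗ[ℂ] W := (E * ρ (v ^ j)).codRestrict W fun y => ⟨ρ (v ^ j) y, rfl⟩ with hg'
    have h1 : W.subtype ∘ₗ g' = E * ρ (v ^ j) := rfl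
    have h2 : g' ∘ₗ W.subtype = f ^ j := by
      refine LinearMap.ext fun y => Subtype.ext ?_
      show E (ρ (v ^ j) y) = ((f ^ j) y : Fin n → ℂ)
      rw [hfj]
      refine hEid _ ?_
      rw [← hfj]
      exact ((f ^ j) y).2
    rw [← h2, ← LinearMap.trace_comp_comm', h1, hE, smul_mul_assoc, map_smul, Finset.sum_mul,
      map_sum, smul_eq_mul]
    congr 1
    refine Finset.sum_congr rfl fun p _ => ?_
    rw [← map_mul, ← hρ]
    rfl
  have hval : ∀ j : ℕ, (4 : ℂ) * LinearMap.trace ℂ W (f ^ j) = (χ : G → ℂ) (v ^ j) + 3 * e := by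
    intro j
    rw [htr, ← mul_assoc, mul_inv_cancel₀ (by norm_num : (4 : ℂ) ≠ 0), one_mul,
      ← Finset.add_sum_erase _ _ (Finset.mem_univ (1 : S.U)),
      Finset.sum_congr rfl (g := fun _ => (e : ℂ)) fun p hp => ?_,
      Finset.sum_const, Finset.card_erase_of_mem (Finset.mem_univ _), Finset.card_univ,
      ← Nat.card_eq_fintype_card, S.card_U, OneMemClass.coe_one, one_mul, nsmul_eq_mul]
    · norm_num
    · rw [← heJ]
      refine S.value_inv hM hχ (orderOf_eq_prime (by rw [pow_two]; exact S.U_sq p.2) fun h =>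
        (Finset.mem_erase.1 hp).1 (Subtype.ext h)) (hvo.of_dvd_nat (orderOf_pow_dvd j))
        ((S.commute_U hv p.2).pow_right j)
  have hfm : f ^ m = 1 := by
    refine LinearMap.ext fun y => Subtype.ext ?_
    rw [hfj, pow_orderOf_eq_one, map_one]
    rfl
  obtain ⟨ι, hι, b, ζ, hb⟩ := Diag.exists_eigenbasis_of_pow_eq_one f hm.ne' hfm
  have htrj : ∀ j : ℕ, LinearMap.trace ℂ W (f ^ j) = ∑ i, ζ i ^ j := by
    intro j
    refine Diag.trace_eq_sum_eigenvalues b (f ^ j) _ fun i => ?_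
    induction j with
    | zero => simp
    | succ j ih => rw [pow_succ, Module.End.mul_apply, (hb i).1, map_smul, ih, smul_smul, pow_succ']
  have h0 : (4 : ℂ) * (Fintype.card ι : ℂ) = (x : ℂ) + 3 * e := by
    have := hval 0
    rw [htrj] at this
    simpa [hx] using this
  have h1 : (4 : ℂ) * ∑ i, ζ i = (χ : G → ℂ) v + 3 * e := by
    have := hval 1
    rw [htrj] at this
    simpa using this
  have hreal : conj (∑ i, ζ i) = ∑ i, ζ i := by
    have hr : conj ((χ : G → ℂ) v) = (χ : G → ℂ) v := by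
      rw [← Basic.apply_inv (Basic.isCharacter_irr χ)]
      refine (Basic.classFunction_apply_of_isConj (Basic.isClassFunction_irr χ) ?_).symm
      exact isConj_iff.2 ⟨S.σ, S.σ_inverts (S.A_le hv)⟩
    have h := congrArg conj h1
    rw [map_mul, map_add, hr, map_mul, Complex.conj_ofNat, Complex.conj_ofNat, map_intCast, ← h1] at h
    exact mul_left_cancel₀ (by norm_num : (4 : ℂ) ≠ 0) h
  have hnot : ∑ i, ζ i ≠ (Fintype.card ι : ℂ) := by
    intro heq
    rw [heq, h0] at h1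
    have hker : v ∈ Kernel.charKer (Basic.isCharacter_irr χ) := by
      rw [Kernel.mem_charKer, hx]
      linear_combination -h1
    obtain ⟨g, hg⟩ := hne
    rw [Kernel.charKer_eq_bot_of_simple _ hg, Subgroup.mem_bot] at hker
    exact hv1 hker
  have htwo := two_le_card_ne_one ζ hvo (fun i => (hb i).2) hreal hnot
  have hsum := sum_pow_range ζ fun i => (hb i).2
  obtain ⟨ι', hι', b', ξ, hb', -, -⟩ := Diag.exists_eigenbasis ρ v hm.ne' (pow_orderOf_eq_one v)
  have hchi : ∀ j : ℕ, (χ : G → ℂ) (v ^ j) = ∑ i, ξ i ^ j := by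
    intro j
    rw [← hρ]
    refine Diag.trace_eq_sum_eigenvalues b' (ρ (v ^ j)) _ fun i => ?_
    induction j with
    | zero => simp
    | succ j ih =>
      rw [pow_succ, map_mul, Module.End.mul_apply, (hb' i).1, map_smul, ih, smul_smul, pow_succ']
  have hsum' := sum_pow_range ξ fun i => (hb' i).2
  have hkey : (4 : ℂ) * ((Finset.univ.filter fun i => ζ i = 1).card : ℂ) =
      ((Finset.univ.filter fun i => ξ i = 1).card : ℂ) + 3 * e := by
    refine mul_left_cancel₀ (Nat.cast_ne_zero.2 hm.ne' : (m : ℂ) ≠ 0) ?_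
    rw [mul_left_comm, ← hsum, Finset.mul_sum, mul_add, ← hsum',
      show (m : ℂ) * (3 * e) = ∑ _j ∈ Finset.range m, (3 * e : ℂ) by simp,
      ← Finset.sum_add_distrib]
    refine Finset.sum_congr rfl fun j _ => ?_
    rw [← hchi, ← hval, htrj]
  have hk : 4 * ((Finset.univ.filter fun i => ζ i = 1).card : ℤ) =
      ((Finset.univ.filter fun i => ξ i = 1).card : ℤ) + 3 * e := by exact_mod_cast hkey
  have h0' : 4 * (Fintype.card ι : ℤ) = (x : ℤ) + 3 * e := by exact_mod_cast h0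
  have hsplit := Finset.card_filter_add_card_filter_not (s := (Finset.univ : Finset ι))
    (fun i => ζ i = 1)
  rw [Finset.card_univ] at hsplit
  have hsplit' : ((Finset.univ.filter fun i => ζ i = 1).card : ℤ) +
      ((Finset.univ.filter fun i => ζ i ≠ 1).card : ℤ) = Fintype.card ι := by exact_mod_cast hsplit
  rcases he with rfl | rfl <;> omega

theorem hgen : Subgroup.closure ({S.σ, S.τ} : Set G) = (S.P : Subgroup G) := by
  refine le_antisymm ((closure_le _).2 ?_) fun p hp => ?_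
  · rintro z (rfl | rfl)
    exacts [S.rot.mem, S.hτ]
  have hz : zpowers S.σ ≤ Subgroup.closure ({S.σ, S.τ} : Set G) :=
    zpowers_le.2 (subset_closure (by simp))
  by_cases h : p ∈ zpowers S.σ
  · exact hz h
  · have := mul_mem (subset_closure (show S.τ ∈ ({S.σ, S.τ} : Set G) by simp))
      (hz (S.rot.prod_mem S.τ S.hτ p hp S.hτz h))
    rwa [← mul_assoc, S.τ_sq, one_mul] at this

theorem σ_sq_eq : S.σ ^ (2 : ℕ) = S.J := rfl

/-- The numerical data. -/
theorem exists_nums [IsSimpleGroup G] (hA : ∃ v, v ∈ S.A ∧ v ≠ 1) :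
    Nonempty (Arith.Nums (Nat.card G) (Nat.card S.A) (Nat.card S.swap.A)) := by
  classical
  haveI := Fintype.ofFinite G
  haveI := Fintype.ofFinite (Cfsg.IrrCharacter G)
  obtain ⟨M, hM⟩ := Cfsg.Agent.Lib.Blocks.exists_isPModular 2 Nat.prime_two
  haveI := hM.2.1
  obtain ⟨hcard, χ₁, χ₂, χ₃, χ', δ₁, δ₂, δ₃, hδ₁, hδ₂, hδ₃, -, hn₁, hn₂, hn₃, h12, h13, h23, hχ',
    hB, hvals, hrel⟩ := Cfsg.Agent.S4481.result M hM 3 le_rfl S.P ⟨S.eP⟩ S.σ S.rot.mem S.rot.order
      Complex.I Complex.isPrimitiveRoot_I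
  have hj : (2 ^ (3 - 2) - 1 : ℕ) = 1 := rfl
  set χ₄ := χ' ⟨0, by norm_num⟩
  obtain ⟨v11, v21, v31, v41⟩ := hvals 1 one_pos (by norm_num)
  obtain ⟨v12, v22, v32, v42⟩ := hvals 2 two_pos (by norm_num)
  have v41' := v41 ⟨0, by norm_num⟩
  have v42' := v42 ⟨0, by norm_num⟩
  norm_num [Complex.inv_I] at v21 v31 v41' v22 v32 v42'
  rw [pow_one] at v11
  rw [S.σ_sq_eq] at v12 v22 v32 v42'
  have hmem : χ₁ ∈ Cfsg.principalBlock M G ∧ χ₂ ∈ Cfsg.principalBlock M G ∧
      χ₃ ∈ Cfsg.principalBlock M G := by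
    rw [hB]; exact ⟨by simp, by simp, by simp⟩
  have hnonconst : ∀ χ : Cfsg.IrrCharacter G, (χ : G → ℂ) ≠ (fun _ => 1) →
      ∃ g, (χ : G → ℂ) g ≠ (χ : G → ℂ) 1 := by
    intro χ hχ
    by_contra hc
    push Not at hc
    apply hχ
    have h1 := Basic.classInner_irr_of_ne (χ := χ) (ψ := Basic.oneChar G) fun e => hχ (by
      rw [e]; exact funext fun g => Basic.oneChar_apply g)
    simp only [Cfsg.classInner, Basic.oneChar_apply, map_one, mul_one, hc, Finset.sum_const,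
      Finset.card_univ, nsmul_eq_mul, ← Nat.card_eq_fintype_card] at h1
    rw [← mul_assoc, inv_mul_cancel₀ (Nat.cast_ne_zero.2 Nat.card_pos.ne'), one_mul] at h1
    exact absurd h1 (Basic.apply_one_ne_zero χ)
  obtain ⟨v, hv, hv1⟩ := hA
  set x := Cfsg.charDegree (χ₁ : G → ℂ) with hxdef
  set x₂ := Cfsg.charDegree (χ₂ : G → ℂ) with hx₂def
  set x₃ := Cfsg.charDegree (χ₃ : G → ℂ) with hx₃def
  have hx : (χ₁ : G → ℂ) 1 = x := Cfsg.Agent.Lib.Blocks.char_one_eq_degree χ₁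
  have hx₂ : (χ₂ : G → ℂ) 1 = x₂ := Cfsg.Agent.Lib.Blocks.char_one_eq_degree χ₂
  have hx₃ : (χ₃ : G → ℂ) 1 = x₃ := Cfsg.Agent.Lib.Blocks.char_one_eq_degree χ₃
  have low₁ := S.degree_bound hM hmem.1 hv hv1 hδ₁ v12 hx (hnonconst _ hn₁)
  have low₂ := S.degree_bound hM hmem.2.1 hv hv1 (e := -δ₂) (by omega)
    (by rw [v22]; push_cast; ring) hx₂ (hnonconst _ hn₂)
  have low₃ := S.degree_bound hM hmem.2.2 hv hv1 (e := -δ₃) (by omega)
    (by rw [v32]; push_cast; ring) hx₃ (hnonconst _ hn₃)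
  have hr := hrel 1 (by simp) ⟨0, by norm_num⟩
  rw [hx, hx₂, hx₃] at hr
  obtain ⟨hr1, hr4⟩ := hr
  have hrel' : 1 + δ₁ * (x : ℤ) = (-δ₂) * x₂ + (-δ₃) * x₃ := by
    have h : ((1 + δ₁ * (x : ℤ) : ℤ) : ℂ) = (((-δ₂) * x₂ + (-δ₃) * x₃ : ℤ) : ℂ) := by
      push_cast
      linear_combination hr1
    exact_mod_cast h
  -- congruence modulo eight
  obtain ⟨k, hk⟩ : ∃ k : ℤ, (x : ℤ) - δ₁ = 8 * k := by
    haveI := Fintype.ofFinite (S.P : Subgroup G)
    obtain ⟨d, ρ, -, hρ⟩ := Basic.exists_rep χ₁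
    obtain ⟨c, hc⟩ := Basic.exists_classInner_nat
      (show Cfsg.IsCharacter (S.P : Subgroup G) (fun a : (S.P : Subgroup G) => (χ₁ : G → ℂ) a) from
        ⟨d, ρ.comp (S.P : Subgroup G).subtype, by rw [← hρ]; rfl⟩)
      (Basic.isCharacter_irr (Basic.oneChar (S.P : Subgroup G)))
    rw [Cfsg.classInner, inv_mul_eq_iff_eq_mul₀ (Nat.cast_ne_zero.2 Nat.card_pos.ne'),
      ← Finset.add_sum_erase _ _ (Finset.mem_univ (1 : (S.P : Subgroup G))),
      Finset.sum_congr rfl (g := fun _ => (δ₁ : ℂ)) fun p hp => ?_,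
      Finset.sum_const, Finset.card_erase_of_mem (Finset.mem_univ _), Finset.card_univ,
      ← Nat.card_eq_fintype_card, S.rot.card] at hc
    · simp only [Basic.oneChar_apply, map_one, mul_one, OneMemClass.coe_one, hx, nsmul_eq_mul] at hc
      refine ⟨(c : ℤ) - δ₁, ?_⟩
      have h : (((x : ℤ) - δ₁ : ℤ) : ℂ) = ((8 * ((c : ℤ) - δ₁) : ℤ) : ℂ) := by
        push_cast
        norm_num at hc
        linear_combination hc
      exact_mod_cast h
    · rw [Basic.oneChar_apply, map_one, mul_one]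
      have hp1 : (p : G) ≠ 1 := fun e => (Finset.mem_erase.1 hp).1 (Subtype.ext e)
      by_cases hsq : (p : G) * p = 1
      · have := S.value_inv hM hmem.1 (orderOf_eq_prime (by rw [pow_two]; exact hsq) hp1)
          (w := 1) (by simp) (Commute.one_right _)
        rw [mul_one, v12] at this
        exact this
      · have hz := S.rot.mem_of_sq p.2 hsq
        obtain ⟨i, hi⟩ := (isOfFinOrder_of_finite S.σ).mem_powers_iff_mem_zpowers.2 hz
        simp only at hi
        rw [← hi, ← pow_mod_orderOf, S.rot.order] at hp1 ⊢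
        have hlt : i % 4 < 4 := Nat.mod_lt _ (by norm_num)
        have hpos : 0 < i % 4 := Nat.pos_of_ne_zero fun e => hp1 (by rw [e, pow_zero])
        exact (hvals (i % 4) hpos (by norm_num; exact hlt)).1
  have hkpos : 0 < k := by rcases hδ₁ with h | h <;> omega
  lift k to ℕ using hkpos.le with k'
  -- the order formula
  have hτo : orderOf S.τ = 2 := orderOf_eq_prime (by rw [pow_two]; exact S.τ_sq) S.τ_ne
  have hστo : orderOf (S.σ * S.τ) = 2 :=
    orderOf_eq_prime (by rw [pow_two]; exact S.swap.τ_sq) S.swap.τ_ne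
  have hF := (Cfsg.Agent.S4482.result M hM 3 le_rfl S.P S.σ S.τ S.rot.mem S.hτ S.rot.order hτo
    S.τσ S.hgen ⟨S.one_class hτo, S.one_class hστo⟩ χ₁ hmem.1 hn₁ δ₁ hδ₁
    (fun l hl0 hl => (hvals l hl0 hl).1)).2
  change (Nat.card G : ℚ) * ((x : ℚ) - δ₁) ^ 2 = 2 * (x : ℚ) * ((x : ℚ) + δ₁) *
    (Nat.card (centralizer ({S.J} : Set G)) : ℚ) ^ 3 *
    (1 / (Nat.card (centralizer ({S.J, S.τ} : Set G)) : ℚ) +
      1 / (Nat.card (centralizer ({S.J, S.swap.τ} : Set G)) : ℚ)) ^ 2 at hF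
  rw [S.card_CJ, S.card_CJτ, show Nat.card (centralizer ({S.J, S.swap.τ} : Set G)) =
    4 * Nat.card S.swap.A from S.swap.card_CJτ, S.card_O] at hF
  set a := Nat.card S.A
  set b := Nat.card S.swap.A
  have ha : (a : ℚ) ≠ 0 := Nat.cast_ne_zero.2 Nat.card_pos.ne'
  have hb : (b : ℚ) ≠ 0 := Nat.cast_ne_zero.2 Nat.card_pos.ne'
  have hxk : (x : ℚ) = 8 * (k' : ℚ) + δ₁ := by
    have : (x : ℤ) = 8 * (k' : ℤ) + δ₁ := by omega
    exact_mod_cast this
  push_cast at hF
  rw [hxk] at hF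
  -- the column of the rotation
  have hσd : Nat.card {q : G // q ∈ (S.P : Subgroup G) ∧ q * S.σ = S.σ * q} = 4 := by
    rw [← S.rot.order, ← Nat.card_zpowers]
    refine Nat.card_congr
      { toFun := fun q => ⟨q.1, S.rot.centralizer_le q.2.1 (mem_zpowers S.σ) S.σ_ne q.2.2⟩
        invFun := fun q => ⟨q.1, S.rot.zpowers_le q.2, ?_⟩
        left_inv := fun _ => rfl
        right_inv := fun _ => rfl }
    obtain ⟨z, hz⟩ := mem_zpowers_iff.1 q.2
    rw [← hz]
    exact ((Commute.refl S.σ).zpow_left z).eq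
  have he2 : ∀ c ∈ kern S.σ 4, (S.σ * c) ^ 2 = S.σ ^ (4 / 2) := by
    intro c hc
    calc (S.σ * c) ^ 2 = (S.σ * c * S.σ⁻¹) * (S.σ * S.σ) * c := by rw [pow_two]; group
      _ = c⁻¹ * (S.J * c) := by rw [S.σ_inverts hc, show S.J = S.σ * S.σ from pow_two _]; group
      _ = _ := by rw [(S.commute_J hc).eq, inv_mul_cancel_left]
  have hσinv : (S.σ ^ (4 / 2) * S.σ⁻¹) * (S.σ ^ (4 / 2) * S.σ⁻¹) ≠ 1 := by
    rw [show S.σ ^ (4 / 2) = S.σ * S.σ from pow_two _, mul_inv_cancel_right]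
    exact S.σ_ne
  have EC := Order.counting S.rot M hM (g := S.σ) (mem_zpowers S.σ) (fun e => S.σ_ne (by rw [e, one_mul]))
    (S.rot.complement (mem_zpowers S.σ) S.σ_ne).1 he2 (Or.inr hσinv)
    (by rw [hσd, S.rot.sum_rot M hM (mem_zpowers S.σ) (mem_zpowers S.σ) S.σ_ne, if_pos (Or.inl rfl)])
    fun i hi => S.one_class hi
  have hS : ∑ p ∈ Finset.univ.filter (fun p : G => p ∈ (S.P : Subgroup G) ∧ p ∉ zpowers S.σ),
      (invs S.σ 4 p).card * (invs S.σ 4 (p * S.σ⁻¹)).card = 4 * (a * b) := by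
    have hI : ∀ i : ℕ, (invs S.σ 4 (S.τ * S.σ ^ i)).card = if Even i then b else Nat.card S.swap.swap.A := by
      intro i
      rw [refl_parity S.rot S.hτ S.hτz (fun p => (invs S.σ 4 p).card)
        (fun s hs p => card_invs_conj (S.le_CJ hs)) i]
      exact if_congr Iff.rfl S.card_invs S.swap.card_invs
    have hab' : Nat.card S.swap.swap.A = a := by
      have h := S.swap_A_swap
      rw [S.card_O] at h
      exact Nat.eq_of_mul_eq_mul_right Nat.card_pos h
    rw [hab'] at hI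
    have hinv : S.σ⁻¹ = S.σ ^ 3 := by
      refine inv_eq_of_mul_eq_one_right ?_
      rw [← pow_succ', ← show orderOf S.σ = 3 + 1 from S.rot.order, pow_orderOf_eq_one]
    rw [sum_refl S.rot S.hτ S.hτz, Finset.sum_congr rfl (g := fun i => a * b) fun i _ => ?_,
      Finset.sum_const, Finset.card_range, smul_eq_mul]
    rw [hinv, mul_assoc, ← pow_add, hI, hI]
    rcases Nat.even_or_odd i with h | h
    · rw [if_pos h, if_neg (Nat.not_even_iff_odd.2 (h.add_odd (by decide))), mul_comm]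
    · rw [if_neg (Nat.not_even_iff_odd.2 h), if_pos (h.add_odd (by decide))]
  have h4 : ∀ j : Fin (2 ^ (3 - 2) - 1), χ' j = χ₄ := fun j => congrArg χ' (Fin.ext (by
    have := j.isLt; simp only at this ⊢; omega))
  have hset : (Set.toFinite (Cfsg.principalBlock M G)).toFinset =
      {Basic.oneChar G, χ₁, χ₂, χ₃, χ₄} := by
    ext χ
    simp only [Set.Finite.mem_toFinset, hB, Set.mem_setOf_eq, Finset.mem_insert, Finset.mem_singleton]
    refine or_congr ⟨fun h => Subtype.ext (h.trans (funext fun g => (Basic.oneChar_apply g).symm)),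
      fun h => h ▸ funext fun g => Basic.oneChar_apply g⟩ (or_congr Iff.rfl (or_congr Iff.rfl
        (or_congr Iff.rfl ⟨fun ⟨j, hj⟩ => hj.trans (h4 j), fun h => ⟨_, h⟩⟩)))
  obtain ⟨h41, h42, h43, h44⟩ := hχ' ⟨0, by norm_num⟩
  have hone : ∀ χ : Cfsg.IrrCharacter G, (χ : G → ℂ) ≠ (fun _ => 1) → Basic.oneChar G ≠ χ :=
    fun χ h e => h (by rw [← e]; exact funext fun g => Basic.oneChar_apply g)
  have n1 : Basic.oneChar G ∉ ({χ₁, χ₂, χ₃, χ₄} : Finset (Cfsg.IrrCharacter G)) := by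
    simp only [Finset.mem_insert, Finset.mem_singleton, not_or]
    exact ⟨hone _ hn₁, hone _ hn₂, hone _ hn₃, hone _ h44⟩
  have n2 : χ₁ ∉ ({χ₂, χ₃, χ₄} : Finset (Cfsg.IrrCharacter G)) := by
    simp only [Finset.mem_insert, Finset.mem_singleton, not_or]
    exact ⟨h12, h13, Ne.symm h41⟩
  have n3 : χ₂ ∉ ({χ₃, χ₄} : Finset (Cfsg.IrrCharacter G)) := by
    simp only [Finset.mem_insert, Finset.mem_singleton, not_or]
    exact ⟨h23, Ne.symm h42⟩
  have n4 : χ₃ ∉ ({χ₄} : Finset (Cfsg.IrrCharacter G)) := by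
    simp only [Finset.mem_singleton]
    exact Ne.symm h43
  rw [hset, Finset.sum_insert n1, Finset.sum_insert n2, Finset.sum_insert n3,
    Finset.sum_insert n4, Finset.sum_singleton] at EC
  simp only [Basic.oneChar_apply] at EC
  rw [hS] at EC
  change _ = (Nat.card (centralizer ({S.J} : Set G)) : ℂ) ^ 2 * _ at EC
  rw [S.card_CJ, show (χ₁ : G → ℂ) (S.σ ^ (4 / 2)) = δ₁ from v12, v11,
    show (χ₂ : G → ℂ) (S.σ ^ (4 / 2)) = -(δ₂ : ℂ) from v22, v21,
    show (χ₃ : G → ℂ) (S.σ ^ (4 / 2)) = -(δ₃ : ℂ) from v32, v31,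
    show (χ₄ : G → ℂ) S.σ = 0 from v41', hx, hx₂, hx₃,
    show Nat.card (kern S.σ 4) = Nat.card S.O from rfl, S.card_O] at EC
  have sq : ∀ z : ℤ, (z = 1 ∨ z = -1) → (z : ℂ) * z = 1 := fun z hz => by
    rcases hz with h | h <;> rw [h] <;> norm_num
  push_cast at EC
  have hcol : (Nat.card G : ℂ) * (1 + (δ₁ : ℂ) / x - ((-δ₂ : ℤ) : ℂ) / x₂ - ((-δ₃ : ℤ) : ℂ) / x₃) =
      256 * ((a : ℂ) * b) ^ 2 := by
    have hab : (a : ℂ) * b ≠ 0 := mul_ne_zero (Nat.cast_ne_zero.2 Nat.card_pos.ne')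
      (Nat.cast_ne_zero.2 Nat.card_pos.ne')
    refine mul_left_cancel₀ hab ?_
    push_cast
    linear_combination EC - (Nat.card G : ℂ) * (a : ℂ) * b * (δ₁ : ℂ) / x * sq _ hδ₁ -
      (Nat.card G : ℂ) * (a : ℂ) * b * (δ₂ : ℂ) / x₂ * sq _ hδ₂ -
      (Nat.card G : ℂ) * (a : ℂ) * b * (δ₃ : ℂ) / x₃ * sq _ hδ₃
  refine ⟨⟨k', δ₁, x₂, x₃, -δ₂, -δ₃, hδ₁, by omega, by omega, by omega, by omega, low₂, low₃,
    by rw [show (8 * (k' : ℤ) + δ₁) = x by omega]; exact hrel', ?_, ?_⟩⟩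
  · have : (Nat.card G : ℚ) * (k' : ℚ) ^ 2 =
        (a : ℚ) * b * ((a : ℚ) + b) ^ 2 * ((8 * k' + δ₁) * (8 * k' + 2 * δ₁)) := by
      field_simp at hF
      refine mul_left_cancel₀ (show (64 : ℚ) * 16 ≠ 0 by norm_num) ?_
      linear_combination hF
    exact_mod_cast this
  · have e : ((8 * (k' : ℤ) + δ₁ : ℤ) : ℂ) = (x : ℂ) := by
      rw [show (8 * (k' : ℤ) + δ₁) = (x : ℤ) by omega]; simp
    have : (((Nat.card G : ℚ) * (1 + (δ₁ : ℚ) / ((8 * k' + δ₁ : ℤ) : ℚ) - ((-δ₂ : ℤ) : ℚ) / x₂ -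
        ((-δ₃ : ℤ) : ℚ) / x₃) : ℚ) : ℂ) = ((256 * ((a : ℚ) * b) ^ 2 : ℚ) : ℂ) := by
      simp only [Rat.cast_mul, Rat.cast_add, Rat.cast_sub, Rat.cast_div, Rat.cast_one, Rat.cast_natCast,
        Rat.cast_intCast, Rat.cast_pow, Rat.cast_ofNat, e]
      exact hcol
    exact_mod_cast this

end Setup

end Cfsg.Agent.Lib.SmallCentralizer
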