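/-
The action on the cosets of the centraliser of an element of `A`: both parts of the odd core
cannot be non-trivial.
-/
import Cfsg.Agent.Lib.SmallCentralizer.Chars
import Mathlib.GroupTheory.GroupAction.Quotient
import Mathlib.GroupTheory.GroupAction.FixedPoints

set_option autoImplicit false

namespace Cfsg.Agent.Lib.SmallCentralizer

open Subgroup MulAction Cfsg.Agent.Lib.DihedralBlock Cfsg.Agent.Lib.DihedralBlock.Sections
open Cfsg.Agent.Lib.DihedralBlock.Order

universe u

/-- An element of odd order whose square fixes a point fixes the point. -/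
theorem smul_eq_of_sq {G X : Type*} [Group G] [MulAction G X] {h : G} (ho : Odd (orderOf h)) {x : X}
    (h2 : h • h • x = x) : h • x = x := by
  obtain ⟨l, hl⟩ := ho
  have e : (h * h) ^ (l + 1) = h := by
    rw [← pow_two, ← pow_mul, show 2 * (l + 1) = orderOf h + 1 by omega, pow_succ, pow_orderOf_eq_one,
      one_mul]
  have hs : h * h ∈ stabilizer G x := by rw [mem_stabilizer_iff, mul_smul, h2]
  exact mem_stabilizer_iff.1 (e ▸ pow_mem hs _)

theorem cube_le_pow (l : ℕ) : l ^ 3 ≤ 3 ^ l := by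
  induction l with
  | zero => norm_num
  | succ l ih =>
    rcases lt_or_ge l 3 with h | h
    · interval_cases l <;> norm_num
    · calc (l + 1) ^ 3 ≤ 3 * l ^ 3 := by nlinarith [Nat.mul_le_mul h h, Nat.zero_le (l ^ 3)]
        _ ≤ 3 * 3 ^ l := Nat.mul_le_mul_left 3 ih
        _ = 3 ^ (l + 1) := by ring

/-- A commutative group of odd order acting faithfully on a set on which a commuting involution has
no fixed point. -/
theorem card_pow_six_le {G X : Type*} [Group G] [Finite G] [MulAction G X] [Finite X] {J : G}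
    (hJ : J * J = 1) :
    ∀ (s : Set X) (H : Subgroup G), Odd (Nat.card H) →
      (∀ h ∈ H, ∀ k ∈ H, Commute h k) → (∀ h ∈ H, Commute J h) →
      (∀ h ∈ H, ∀ x ∈ s, h • x ∈ s) → (∀ x ∈ s, J • x ∈ s ∧ J • x ≠ x) →
      (∀ h ∈ H, (∀ x ∈ s, h • x = x) → h = 1) → Nat.card H ^ 6 ≤ 3 ^ s.ncard := by
  intro s
  induction hn : s.ncard using Nat.strong_induction_on generalizing s with
  | _ N ih =>
  intro H hodd habel hcomm hH hJs hfaith
  rcases s.eq_empty_or_nonempty with rfl | ⟨y, hy⟩
  · have : H = ⊥ := by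
      rw [eq_bot_iff]
      intro h hh
      rw [Subgroup.mem_bot]
      exact hfaith h hh fun x hx => absurd hx (Set.notMem_empty x)
    subst this
    simp only [Subgroup.card_bot, one_pow]
    exact Nat.one_le_pow _ _ (by norm_num)
  set L : Set X := orbit H y with hL
  set L' : Set X := (J • ·) '' L with hL'
  have hmul := (stabilizer H y).index_mul_card
  rw [index_stabilizer] at hmul
  set H' : Subgroup G := H ⊓ stabilizer G y with hH'
  have hst : Nat.card (stabilizer H y) = Nat.card H' := Nat.card_congr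
    { toFun := fun x => ⟨((x : H) : G), (x : H).2, mem_stabilizer_iff.2 (mem_stabilizer_iff.1 x.2)⟩
      invFun := fun x => ⟨⟨x, x.2.1⟩, mem_stabilizer_iff.2 (mem_stabilizer_iff.1 x.2.2)⟩
      left_inv := fun _ => rfl
      right_inv := fun _ => rfl }
  have hLs : L ⊆ s := by
    rintro _ ⟨h, rfl⟩
    exact hH h h.2 y hy
  have hL's : L' ⊆ s := by
    rintro _ ⟨x, hx, rfl⟩
    exact (hJs x (hLs hx)).1
  have hdis : Disjoint L L' := by
    rw [Set.disjoint_left]
    rintro _ ⟨h, rfl⟩ ⟨_, ⟨k, rfl⟩, e⟩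
    have e' : J • (k : G) • y = (h : G) • y := e
    set c : G := (k : G)⁻¹ * h with hc
    have hcH : c ∈ H := mul_mem (inv_mem k.2) h.2
    have e2 : J • y = c • y := by
      rw [hc, mul_smul, ← e', ← mul_smul J, (hcomm k k.2).eq, mul_smul, inv_smul_smul]
    refine (hJs y hy).2 (e2.trans (smul_eq_of_sq ?_ ?_))
    · exact hodd.of_dvd_nat (Subgroup.orderOf_dvd_natCard H hcH)
    · rw [← e2, ← mul_smul, ← (hcomm c hcH).eq, mul_smul, ← e2, ← mul_smul, hJ, one_smul]
  have hL'card : L'.ncard = L.ncard := Set.ncard_image_of_injective L (MulAction.injective J)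
  set t : Set X := s \ (L ∪ L') with ht
  have hsub : L ∪ L' ⊆ s := Set.union_subset hLs hL's
  have hcard : t.ncard + 2 * L.ncard = s.ncard := by
    have h1 := Set.ncard_sdiff_add_ncard_of_subset hsub
    rw [Set.ncard_union_eq hdis, hL'card] at h1
    rw [ht]; omega
  have hLpos : 0 < L.ncard := (Set.ncard_pos).2 ⟨y, mem_orbit_self y⟩
  have hLH : ∀ h ∈ H, ∀ x ∈ L, h • x ∈ L := by
    rintro h hh _ ⟨k, rfl⟩
    exact ⟨⟨h, hh⟩ * k, mul_smul (⟨h, hh⟩ : H) k y⟩
  have hL'H : ∀ h ∈ H, ∀ x ∈ L', h • x ∈ L' := by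
    rintro h hh _ ⟨x, hx, rfl⟩
    exact ⟨h • x, hLH h hh x hx, by
      show J • h • x = h • J • x
      rw [← mul_smul, (hcomm h hh).eq, mul_smul]⟩
  have hH'H : H' ≤ H := inf_le_left
  have hfix : ∀ h ∈ H', ∀ x ∈ L ∪ L', h • x = x := by
    intro h hh x hx
    have hL0 : ∀ x ∈ L, h • x = x := by
      rintro _ ⟨k, rfl⟩
      show h • (k : G) • y = (k : G) • y
      rw [← mul_smul, (habel h (hH'H hh) k k.2).eq, mul_smul, mem_stabilizer_iff.1 hh.2]
    rcases hx with hx | ⟨w, hw, rfl⟩
    · exact hL0 x hx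
    · show h • J • w = J • w
      rw [← mul_smul, ← (hcomm h (hH'H hh)).eq, mul_smul, hL0 w hw]
  have hrec := ih t.ncard (by omega) t rfl H' (hodd.of_dvd_nat (Subgroup.card_dvd_of_le hH'H))
    (fun h hh k hk => habel h (hH'H hh) k (hH'H hk)) (fun h hh => hcomm h (hH'H hh))
    (fun h hh x hx => ⟨hH h (hH'H hh) x hx.1, fun hc => hx.2 (by
      have e : h • x = x := by
        refine MulAction.injective h ?_
        exact hfix h hh _ hc
      rwa [e] at hc)⟩)
    (fun x hx => ⟨⟨(hJs x hx.1).1, fun hc => hx.2 (by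
      rcases hc with hc | ⟨w, hw, hc⟩
      · exact Or.inr ⟨J • x, hc, show J • J • x = x by rw [← mul_smul, hJ, one_smul]⟩
      · exact Or.inl (MulAction.injective J hc ▸ hw))⟩, (hJs x hx.1).2⟩)
    (fun h hh hf => hfaith h (hH'H hh) fun x hx => by
      by_cases hu : x ∈ L ∪ L'
      · exact hfix h hh x hu
      · exact hf x ⟨hx, hu⟩)
  rw [hst] at hmul
  rw [← hmul, ← hn, mul_pow]
  calc L.ncard ^ 6 * Nat.card H' ^ 6 = (L.ncard ^ 3) ^ 2 * Nat.card H' ^ 6 := by ring
    _ ≤ (3 ^ L.ncard) ^ 2 * 3 ^ t.ncard :=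
        Nat.mul_le_mul (Nat.pow_le_pow_left (cube_le_pow _) 2) hrec
    _ = 3 ^ s.ncard := by rw [← hcard]; ring

namespace Setup

variable {G : Type u} [Group G] [Finite G] (S : Setup G) {v : G}

theorem K_ne_top (hv : v ∈ S.A) (hv1 : v ≠ 1) : centralizer ({v} : Set G) ≠ ⊤ := fun h =>
  hv1 (S.eq_one_of_commute_σ (S.A_le hv)
    (mem_centralizer_singleton_iff.1 (h ▸ Subgroup.mem_top S.σ : S.σ ∈ centralizer ({v} : Set G))))

theorem mem_fixed_iff {K : Subgroup G} {g c : G} :
    (c : G ⧸ K) ∈ fixedBy (G ⧸ K) g ↔ c⁻¹ * g * c ∈ K := by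
  rw [mem_fixedBy]
  change ((g * c : G) : G ⧸ K) = (c : G ⧸ K) ↔ _
  rw [eq_comm, QuotientGroup.eq, mul_assoc]

/-- `J` fixes exactly two cosets. -/
theorem fixed_J {M : Ideal Cfsg.AlgInt} (hM : Cfsg.IsPModular 2 M) (hv : v ∈ S.A) (hv1 : v ≠ 1) :
    Nat.card (fixedBy (G ⧸ centralizer ({v} : Set G)) S.J) = 2 := by
  obtain ⟨-, -, hone, -⟩ := S.card_K hM hv hv1
  set K := centralizer ({v} : Set G)
  set C := centralizer ({S.J} : Set G)
  have hfix : fixedBy (G ⧸ K) S.J = orbit C ((1 : G) : G ⧸ K) := by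
    ext x
    obtain ⟨c, rfl⟩ := QuotientGroup.mk_surjective x
    rw [mem_fixed_iff]
    constructor
    · intro hc
      obtain ⟨k, hk⟩ := isConj_iff.1 (hone ⟨_, hc⟩ (by
        rw [← Subgroup.orderOf_coe]
        show orderOf (c⁻¹ * S.J * c) = 2
        rw [show c⁻¹ * S.J * c = MulAut.conj c⁻¹ S.J by simp, MulEquiv.orderOf_eq, S.orderOf_J]))
      have hk' : (k : G) * S.J * (k : G)⁻¹ = c⁻¹ * S.J * c := congrArg Subtype.val hk
      refine ⟨⟨c * k, mem_centralizer_singleton_iff.2 ?_⟩, ?_⟩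
      · calc c * (k : G) * S.J = c * ((k : G) * S.J * (k : G)⁻¹) * (k : G) := by group
          _ = c * (c⁻¹ * S.J * c) * (k : G) := by rw [hk']
          _ = S.J * (c * k) := by group
      · show ((c * (k : G) * 1 : G) : G ⧸ K) = (c : G ⧸ K)
        rw [mul_one, QuotientGroup.eq]
        simp
    · rintro ⟨z, hz⟩
      have hz' : (((z : G) * 1 : G) : G ⧸ K) = (c : G ⧸ K) := hz
      rw [mul_one, QuotientGroup.eq] at hz'
      have hJz : (z : G) * S.J = S.J * z := mem_centralizer_singleton_iff.1 z.2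
      have : c⁻¹ * S.J * c = ((z : G)⁻¹ * c)⁻¹ * S.J * ((z : G)⁻¹ * c) := by
        calc c⁻¹ * S.J * c = c⁻¹ * (S.J * z) * ((z : G)⁻¹ * c) := by group
          _ = c⁻¹ * (z * S.J) * ((z : G)⁻¹ * c) := by rw [hJz]
          _ = _ := by group
      rw [this]
      exact mul_mem (mul_mem (inv_mem hz') (S.U_le_K hv S.J_mem_U)) hz'
  have hmul := (stabilizer C ((1 : G) : G ⧸ K)).index_mul_card
  rw [index_stabilizer, ← Nat.card_coe_set_eq] at hmul
  have hst : Nat.card (stabilizer C ((1 : G) : G ⧸ K)) = 4 * Nat.card S.O := by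
    rw [← S.card_CJv hv hv1]
    refine Nat.card_congr
      { toFun := fun x => ⟨((x : C) : G), ?_⟩
        invFun := fun x => ⟨⟨x, ?_⟩, ?_⟩
        left_inv := fun _ => rfl
        right_inv := fun _ => rfl }
    · rw [mem_centralizer_iff]
      rintro w (rfl | rfl)
      · exact (mem_centralizer_singleton_iff.1 (x : C).2).symm
      · have hx := mem_stabilizer_iff.1 x.2
        change ((((x : C) : G) * 1 : G) : G ⧸ K) = ((1 : G) : G ⧸ K) at hx
        rw [mul_one, eq_comm, QuotientGroup.eq, inv_one, one_mul] at hx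
        exact (mem_centralizer_singleton_iff.1 hx).symm
    · exact mem_centralizer_singleton_iff.2 (mem_centralizer_iff.1 x.2 S.J (by simp)).symm
    · rw [mem_stabilizer_iff]
      show (((x : G) * 1 : G) : G ⧸ K) = ((1 : G) : G ⧸ K)
      rw [mul_one, eq_comm, QuotientGroup.eq, inv_one, one_mul]
      exact mem_centralizer_singleton_iff.2 (mem_centralizer_iff.1 x.2 v (by simp)).symm
  rw [hst, show Nat.card C = Nat.card S.O * 8 from S.card_CJ] at hmul
  rw [hfix]
  have hO : 0 < Nat.card S.O := Nat.card_pos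
  refine Nat.eq_of_mul_eq_mul_right (show 0 < 4 * Nat.card S.O by omega) ?_
  rw [hmul]; ring

theorem fixed_conj {K : Subgroup G} (g x : G) :
    Nat.card (fixedBy (G ⧸ K) (g * x * g⁻¹)) = Nat.card (fixedBy (G ⧸ K) x) := by
  rw [Nat.card_coe_set_eq, Nat.card_coe_set_eq, ← smul_fixedBy,
    ← Set.image_smul, Set.ncard_image_of_injective _ (MulAction.injective g)]

/-- A rotation of order four fixes no coset. -/
theorem fixed_rot (hv : v ∈ S.A) (hv1 : v ≠ 1) {p : G} (hp : p ∈ (S.P : Subgroup G)) (h2 : p * p ≠ 1) :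
    fixedBy (G ⧸ centralizer ({v} : Set G)) p = ∅ := by
  set K := centralizer ({v} : Set G)
  rw [Set.eq_empty_iff_forall_notMem]
  intro x hx
  obtain ⟨c, rfl⟩ := QuotientGroup.mk_surjective x
  have hc := mem_centralizer_singleton_iff.1 (mem_fixed_iff.1 hx)
  set w := c * v * c⁻¹ with hw
  have hcw : Commute p w := by
    show p * w = w * p
    calc p * w = c * ((c⁻¹ * p * c) * v) * c⁻¹ := by rw [hw]; group
      _ = c * (v * (c⁻¹ * p * c)) * c⁻¹ := by rw [hc]
      _ = w * p := by rw [hw]; group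
  have hz : p ∈ zpowers S.σ := by
    by_contra hz
    exact h2 (S.rot.inverts p hp hz).1
  have hzz : p * p ∈ zpowers S.σ := mul_mem hz hz
  have h4 : (p * p) * (p * p) = 1 := by
    obtain ⟨i, rfl⟩ := mem_zpowers_iff.1 hz
    have e : S.σ ^ (4 : ℤ) = 1 := by
      rw [show (4 : ℤ) = ((orderOf S.σ : ℕ) : ℤ) by rw [S.rot.order]; rfl, zpow_natCast, pow_orderOf_eq_one]
    rw [← zpow_add, ← zpow_add, show i + i + (i + i) = 4 * i by ring, zpow_mul, e, one_zpow]
  have hJw : Commute S.J w := by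
    have e : p * p = S.J := S.rot.eq_half hzz h2 h4
    exact e ▸ hcw.mul_left hcw
  have hwo : Odd (orderOf w) := by
    rw [hw, show c * v * c⁻¹ = MulAut.conj c v from rfl, MulEquiv.orderOf_eq]
    exact kern_odd (S.A_le hv)
  rcases S.rot_cases hz (S.mem_O hJw hwo) (fun h => hv1 (conj_eq_one_iff.1 h)) hcw with h | h
  · exact h2 (by rw [h, one_mul])
  · exact h2 (by rw [h, S.J_sq])

/-- The index of the centraliser of `v` is six modulo eight. -/
theorem index_mod {M : Ideal Cfsg.AlgInt} (hM : Cfsg.IsPModular 2 M) (hv : v ∈ S.A) (hv1 : v ≠ 1) :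
    (centralizer ({v} : Set G)).index % 8 = 6 := by
  classical
  haveI : Fintype G := Fintype.ofFinite G
  set K := centralizer ({v} : Set G)
  set X := G ⧸ K
  haveI : Fintype (S.P : Subgroup G) := Fintype.ofFinite _
  haveI : Fintype X := Fintype.ofFinite _
  set n := Fintype.card X
  have hb := sum_card_fixedBy_eq_card_orbits_mul_card_group (S.P : Subgroup G) X
  have hf : ∀ p : (S.P : Subgroup G), Fintype.card (fixedBy X p) =
      if S.eP p = 1 then n else if S.eP p * S.eP p = 1 then 2 else 0 := by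
    intro p
    rw [← Nat.card_eq_fintype_card, show fixedBy X p = fixedBy X (p : G) from rfl]
    have e1 : S.eP p = 1 ↔ (p : G) = 1 := by
      rw [← map_one S.eP, S.eP.injective.eq_iff, Subtype.ext_iff]; rfl
    have e2 : S.eP p * S.eP p = 1 ↔ (p : G) * p = 1 := by
      rw [← map_mul, ← map_one S.eP, S.eP.injective.eq_iff, Subtype.ext_iff]; rfl
    by_cases h1 : (p : G) = 1
    · rw [if_pos (e1.2 h1), h1, fixedBy_one_eq_univ, Nat.card_congr (Equiv.Set.univ X),
        Nat.card_eq_fintype_card]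
    rw [if_neg (fun h => h1 (e1.1 h))]
    by_cases h2 : (p : G) * p = 1
    · rw [if_pos (e2.2 h2)]
      obtain ⟨g, hg⟩ := isConj_iff.1 (S.one_class (orderOf_eq_prime (by rw [pow_two]; exact h2) h1))
      rw [← hg, fixed_conj, S.fixed_J hM hv hv1]
    · rw [if_neg (fun h => h2 (e2.1 h)), S.fixed_rot hv hv1 p.2 h2]
      simp
  rw [Finset.sum_congr rfl fun p _ => hf p,
    Fintype.sum_equiv S.eP.toEquiv
      (fun p => if S.eP p = 1 then n else if S.eP p * S.eP p = 1 then 2 else 0)
      (fun d => if d = 1 then n else if d * d = 1 then 2 else 0) (fun _ => rfl),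
    Finset.sum_ite, Finset.sum_ite, Finset.sum_const, Finset.sum_const, Finset.sum_const_zero,
    Finset.filter_filter, smul_eq_mul, smul_eq_mul, add_zero] at hb
  have c1 : (Finset.univ.filter fun d : DihedralGroup 4 => d = 1).card = 1 := by decide
  have c2 : (Finset.univ.filter fun d : DihedralGroup 4 => ¬ d = 1 ∧ d * d = 1).card = 5 := by decide
  rw [c1, c2, ← Nat.card_eq_fintype_card (α := (S.P : Subgroup G)), S.rot.card] at hb
  rw [Subgroup.index_eq_card, Nat.card_eq_fintype_card]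
  change n % 8 = 6
  omega

/-- The odd core is small compared to the index. -/
theorem card_O_bound [IsSimpleGroup G] {M : Ideal Cfsg.AlgInt} (hM : Cfsg.IsPModular 2 M)
    (hv : v ∈ S.A) (hv1 : v ≠ 1) :
    Nat.card S.O ^ 6 ≤ 3 ^ ((centralizer ({v} : Set G)).index - 2) := by
  set K := centralizer ({v} : Set G)
  set F : Set (G ⧸ K) := fixedBy (G ⧸ K) S.J
  have hF : F.ncard = 2 := by rw [← Nat.card_coe_set_eq]; exact S.fixed_J hM hv hv1
  have hs : Fᶜ.ncard = K.index - 2 := by
    rw [Set.ncard_compl, hF, Subgroup.index_eq_card]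
  have hcore : K.normalCore = ⊥ := (K.normalCore_normal.eq_bot_or_eq_top).resolve_right fun h =>
    S.K_ne_top hv hv1 (top_unique (h ▸ K.normalCore_le))
  have hJO : ∀ h ∈ S.O, Commute S.J h := fun h hh => S.commute_J hh
  have hOF : ∀ h ∈ S.O, ∀ x, x ∈ F → h • x ∈ F := by
    intro h hh x hx
    show S.J • h • x = h • x
    rw [← mul_smul, (hJO h hh).eq, mul_smul, show S.J • x = x from hx]
  rw [← hs]
  refine card_pow_six_le S.J_sq Fᶜ S.O S.O_odd (fun h hh k hk => S.O_comm hh hk) hJO ?_ ?_ ?_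
  · intro h hh x hx hc
    have := hOF h⁻¹ (inv_mem hh) _ hc
    rw [inv_smul_smul] at this
    exact hx this
  · intro x hx
    refine ⟨fun hc => hx ?_, hx⟩
    show S.J • x = x
    have hc' : S.J • S.J • x = S.J • x := hc
    exact MulAction.injective S.J hc'
  · intro h hh hf
    have hall : ∀ x : G ⧸ K, h • x = x := by
      intro x
      by_cases hx : x ∈ F
      · by_contra hne
        have hpair : F = {x, h • x} := by
          refine (Set.eq_of_subset_of_ncard_le ?_ ?_).symm
          · rintro y (rfl | rfl)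
            exacts [hx, hOF h hh x hx]
          · rw [hF, Set.ncard_pair (Ne.symm hne)]
        have h2 := hOF h hh _ (hOF h hh x hx)
        rw [hpair] at h2
        rcases h2 with h2 | h2
        · exact hne (smul_eq_of_sq (kern_odd hh) h2)
        · exact hne (MulAction.injective h h2)
      · exact hf x hx
    have hker : h ∈ K.normalCore := by
      rw [Subgroup.normalCore_eq_ker, MonoidHom.mem_ker]
      exact Equiv.ext hall
    rwa [hcore, Subgroup.mem_bot] at hker

include S in
/-- Both parts of the odd core are not simultaneously non-trivial. -/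
theorem false_of_both [IsSimpleGroup G] (ha : 3 ≤ Nat.card S.A)
    (hab : Nat.card S.A ≤ Nat.card S.swap.A) : False := by
  haveI : Fact (Nat.Prime 2) := ⟨Nat.prime_two⟩
  obtain ⟨v, hv, hv1⟩ : ∃ v ∈ S.A, v ≠ 1 := by
    refine S.A.bot_or_exists_ne_one.resolve_left fun h => ?_
    rw [h, Subgroup.card_bot] at ha; omega
  obtain ⟨D⟩ := S.exists_nums ⟨v, hv, hv1⟩
  obtain ⟨M, hM⟩ := Cfsg.Agent.Lib.Blocks.exists_isPModular 2 Nat.prime_two
  obtain ⟨hm, hdiv, -, -⟩ := S.card_K hM hv hv1
  have hO := S.card_O_bound hM hv hv1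
  rw [S.card_O] at hO
  have h16 : ¬ 16 ∣ Nat.card G := by
    intro h
    have hd := (Nat.Prime.pow_dvd_iff_le_factorization Nat.prime_two Nat.card_pos.ne').1
      (show 2 ^ 4 ∣ Nat.card G from h)
    have hP := S.P.card_eq_multiplicity
    rw [S.rot.card] at hP
    have : (Nat.card G).factorization 2 = 3 :=
      Nat.pow_right_injective le_rfl (hP.symm.trans (by norm_num))
    omega
  set n := (centralizer ({v} : Set G)).index
  have hle : ∀ N B : ℕ, 3 ^ (N - 2) < (B + 1) ^ 6 → n = N →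
      Nat.card S.A * Nat.card S.swap.A ≤ B := by
    intro N B hB hn
    rw [hn] at hO
    by_contra hne
    have := Nat.pow_le_pow_left (show B + 1 ≤ Nat.card S.A * Nat.card S.swap.A by omega) 6
    omega
  exact D.false_of_orbit ha hab S.A_odd S.swap.A_odd h16 (S.index_mod hM hv hv1)
    (Subgroup.index_mul_card _).symm hm hdiv (hle 6 8 (by norm_num)) (hle 14 9 (by norm_num))
    (hle 22 38 (by norm_num))

end Setup

end Cfsg.Agent.Lib.SmallCentralizer
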