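/-
A simple group in this situation has `C(J)` of order eight or has order 2520.
-/
import Cfsg.Agent.Lib.SmallCentralizer.Orbit

set_option autoImplicit false

namespace Cfsg.Agent.Lib.SmallCentralizer

open Subgroup

universe u

namespace Setup

variable {G : Type u} [Group G] [Finite G] (S : Setup G)

theorem card_swap_swap : Nat.card S.swap.swap.A = Nat.card S.A := by
  have h := S.swap_A_swap
  rw [S.card_O] at h
  exact Nat.eq_of_mul_eq_mul_right Nat.card_pos h

include S in
theorem eight_dvd : 8 ∣ Nat.card G := by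
  have h := Subgroup.card_subgroup_dvd_card (S.P : Subgroup G)
  rwa [S.rot.card] at h

include S in
theorem not_sixteen_dvd : ¬ 16 ∣ Nat.card G := by
  intro h
  haveI : Fact (Nat.Prime 2) := ⟨Nat.prime_two⟩
  have hd := (Nat.Prime.pow_dvd_iff_le_factorization Nat.prime_two Nat.card_pos.ne').1
    (show 2 ^ 4 ∣ Nat.card G from h)
  have hP := S.P.card_eq_multiplicity
  rw [S.rot.card] at hP
  have : (Nat.card G).factorization 2 = 3 :=
    Nat.pow_right_injective le_rfl (hP.symm.trans (by norm_num))
  omega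

include S in
theorem card_eq_2520_of_one [IsSimpleGroup G] (ha : 3 ≤ Nat.card S.A) (hb : Nat.card S.swap.A = 1) :
    Nat.card G = 2520 ∧ Nat.card S.A = 3 := by
  obtain ⟨v, hv, hv1⟩ : ∃ v ∈ S.A, v ≠ 1 := by
    refine S.A.bot_or_exists_ne_one.resolve_left fun h => ?_
    rw [h, Subgroup.card_bot] at ha; omega
  obtain ⟨D⟩ := S.exists_nums ⟨v, hv, hv1⟩
  exact D.eq_2520 hb S.A_odd ha S.eight_dvd S.not_sixteen_dvd

include S in
/-- The numerical dichotomy. -/
theorem dichotomy [IsSimpleGroup G] :
    Nat.card (centralizer ({S.J} : Set G)) = 8 ∨ Nat.card G = 2520 := by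
  have ha := Nat.odd_iff.1 S.A_odd
  have hb := Nat.odd_iff.1 S.swap.A_odd
  by_cases ha1 : Nat.card S.A = 1 <;> by_cases hb1 : Nat.card S.swap.A = 1
  · left; rw [S.card_CJ, S.card_O, ha1, hb1]
  · exact Or.inr (S.swap.card_eq_2520_of_one (by omega) (S.card_swap_swap.trans ha1)).1
  · exact Or.inr (S.card_eq_2520_of_one (by omega) hb1).1
  · rcases le_total (Nat.card S.A) (Nat.card S.swap.A) with h | h
    · exact (S.false_of_both (by omega) h).elim
    · exact (S.swap.false_of_both (by omega) (S.card_swap_swap.symm ▸ h)).elim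

end Setup

end Cfsg.Agent.Lib.SmallCentralizer
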