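/-
A simple group with a self-centralising element of order four has dihedral Sylow 2-subgroups of
order eight.
-/
import Cfsg.Agent.Lib.SmallCentralizer.Basic
import Cfsg.Agent.Lib.PGroups.MaximalClass
import Cfsg.Agent.Lib.TwoGroups.NoIndexTwo
import Cfsg.Agent.Lib.SmallGroups.Sylow
import Cfsg.Agent.Lib.Classif.SmallOrderKills
import Cfsg.Agent.S4399
import Cfsg.Agent.S4584
import Cfsg.Agent.S1204
import Cfsg.Agent.S0201

set_option autoImplicit false

namespace Cfsg.Agent.Lib.SmallCentralizer

open Subgroup Cfsg.Agent.Lib.DihedralBlock Cfsg.Agent.Lib.TwoGroups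

universe u

variable {G : Type u} [Group G] [Finite G]

theorem not_comm_of_not_cyclic [IsSimpleGroup G] (hG : ¬ IsCyclic G) : ¬ IsMulCommutative G := fun h =>
  hG (letI : CommGroup G := { ‹Group G› with mul_comm := h.is_comm.comm }; IsSimpleGroup.isCyclic)

/-- A non-trivial Sylow 2-subgroup of a simple non-abelian group is not cyclic. -/
theorem sylow_two_not_cyclic [IsSimpleGroup G] (hG : ¬ IsMulCommutative G) (P : Sylow 2 G)
    (hP : (P : Subgroup G) ≠ ⊥) : ¬ IsCyclic (P : Subgroup G) := by
  intro hc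
  haveI : Fact (Nat.Prime 2) := ⟨Nat.prime_two⟩
  haveI := hc
  have h2 : 2 ∣ Nat.card G := by
    obtain ⟨n, hn⟩ := IsPGroup.iff_card.1 P.2
    rcases n with _ | n
    · exact absurd (Subgroup.eq_bot_of_card_eq _ (by simpa using hn)) hP
    · exact (hn ▸ dvd_pow_self 2 n.succ_ne_zero : 2 ∣ Nat.card (P : Subgroup G)).trans
        (Subgroup.card_subgroup_dvd_card _)
  exact SmallGroups.Sylow.not_normalizer_le_centralizer hG P hP
    (IsCyclic.normalizer_le_centralizer (by rw [Nat.minFac_eq_two_iff]; exact h2) hc)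

/-- Conjugate elements have centralisers of the same order. -/
theorem card_centralizer_conj {x y : G} (h : IsConj x y) :
    Nat.card (centralizer ({y} : Set G)) = Nat.card (centralizer ({x} : Set G)) := by
  obtain ⟨g, hg⟩ := isConj_iff.1 h
  have e : (centralizer ({x} : Set G)).map (MulAut.conj g).toMonoidHom = centralizer ({y} : Set G) := by
    ext z
    simp only [Subgroup.mem_map, mem_centralizer_singleton_iff, MulEquiv.coe_toMonoidHom,
      MulAut.conj_apply]
    constructor
    · rintro ⟨w, hw, rfl⟩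
      rw [← hg]
      calc g * w * g⁻¹ * (g * x * g⁻¹) = g * (w * x) * g⁻¹ := by group
        _ = g * (x * w) * g⁻¹ := by rw [hw]
        _ = _ := by group
    · intro hz
      refine ⟨g⁻¹ * z * g, ?_, by group⟩
      rw [← hg] at hz
      calc g⁻¹ * z * g * x = g⁻¹ * (z * (g * x * g⁻¹)) * g := by group
        _ = g⁻¹ * ((g * x * g⁻¹) * z) * g := by rw [hz]
        _ = _ := by group
  rw [← e, Subgroup.card_map_of_injective (MulAut.conj g).injective]

/-- The Sylow 2-subgroup containing a self-centralising element of order four is dihedral of order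
eight. -/
theorem exists_dihedral_eight [IsSimpleGroup G] (hG : ¬ IsCyclic G) {w : G} (hw : orderOf w = 4)
    (hC : Nat.card (centralizer ({w} : Set G)) = 4) :
    ∃ P : Sylow 2 G, w ∈ (P : Subgroup G) ∧ Nonempty ((P : Subgroup G) ≃* DihedralGroup 4) := by
  haveI : Fact (Nat.Prime 2) := ⟨Nat.prime_two⟩
  have hna := not_comm_of_not_cyclic hG
  have hidx := Classif.SmallOrderKills.index_ne_two hna
  have hp : IsPGroup 2 (zpowers w) := IsPGroup.of_card (n := 2) (by rw [Nat.card_zpowers, hw]; norm_num)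
  obtain ⟨P, hP⟩ := hp.exists_le_sylow
  have hwP : w ∈ (P : Subgroup G) := hP (mem_zpowers w)
  refine ⟨P, hwP, ?_⟩
  have hPbot : (P : Subgroup G) ≠ ⊥ := fun h => by
    rw [h, Subgroup.mem_bot] at hwP
    rw [hwP, orderOf_one] at hw
    norm_num at hw
  have hncyc := sylow_two_not_cyclic hna P hPbot
  set X := ↥(P : Subgroup G)
  set w' : X := ⟨w, hwP⟩ with hw'
  have hw'o : orderOf w' = 4 := by rw [← Subgroup.orderOf_coe]; exact hw
  set A := zpowers w' with hA
  have hA4 : Nat.card A = 2 ^ 2 := by rw [hA, Nat.card_zpowers, hw'o]; norm_num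
  have hle : ∀ y : X, Commute y w' → y ∈ A := by
    intro y hy
    have hy' : (y : G) ∈ zpowers w := by
      have e : zpowers w = centralizer ({w} : Set G) :=
        Subgroup.eq_of_le_of_card_ge (zpowers_le.2 (mem_centralizer_singleton_iff.2 rfl))
          (by rw [hC, Nat.card_zpowers, hw])
      rw [e, mem_centralizer_singleton_iff]
      exact congrArg Subtype.val hy.eq
    obtain ⟨i, hi⟩ := mem_zpowers_iff.1 hy'
    exact mem_zpowers_iff.2 ⟨i, Subtype.ext (by rw [SubgroupClass.coe_zpow]; exact hi)⟩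
  have hCA : centralizer (A : Set X) = A := by
    refine le_antisymm (fun y hy => hle y (mem_centralizer_iff.1 hy w' (mem_zpowers w')).symm) ?_
    intro y hy
    rw [mem_centralizer_iff]
    intro z hz
    obtain ⟨i, rfl⟩ := mem_zpowers_iff.1 hy
    obtain ⟨j, rfl⟩ := mem_zpowers_iff.1 (SetLike.mem_coe.1 hz)
    exact ((Commute.refl w').zpow_zpow j i).eq
  obtain ⟨n, hn⟩ := IsPGroup.iff_card.1 P.2
  have hn2 : 2 ≤ n := (Nat.pow_dvd_pow_iff_le_right (x := 2) (by norm_num)).1
    (hA4 ▸ hn ▸ Subgroup.card_subgroup_dvd_card A)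
  have hn3 : n ≠ 2 := fun h => hncyc (by
    rw [isCyclic_iff_exists_zpowers_eq_top]
    exact ⟨w', Subgroup.eq_top_of_card_eq _ (by rw [← hA, hA4, hn, h])⟩)
  haveI := P.2.isNilpotent
  have hcl := PGroups.class_of_self_centralizing_sq n A hn hA4 hCA
  have hab := PGroups.index_commutator_of_class n hn2 hn hcl
  rw [Subgroup.index_eq_card] at hab
  have hnc : ¬ ∀ a b : X, a * b = b * a := fun h => hncyc (by
    rw [isCyclic_iff_exists_zpowers_eq_top]
    exact ⟨w', eq_top_iff.2 fun y _ => hle y (h y w')⟩)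
  have hexp : ∀ z : Abelianization X, z ^ 2 = 1 := by
    intro z
    have hd : orderOf z ∣ 2 ^ 2 := by
      have h := orderOf_dvd_natCard z
      rwa [show Nat.card (Abelianization X) = 2 ^ 2 from hab] at h
    obtain ⟨j, hj, hj'⟩ := (Nat.dvd_prime_pow Nat.prime_two).1 hd
    rw [← orderOf_dvd_iff_pow_eq_one, hj']
    interval_cases j
    · norm_num
    · norm_num
    exfalso
    obtain ⟨x, rfl⟩ := QuotientGroup.mk_surjective z
    refine hnc (S4584.comm_of_cyclic_abelianization P.2 x ?_)
    have htop : zpowers (Abelianization.of x) = ⊤ := Subgroup.eq_top_of_card_eq _ (by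
      rw [Nat.card_zpowers]
      exact hj'.trans (show Nat.card (Abelianization X) = 2 ^ 2 from hab).symm)
    have h := congrArg (Subgroup.comap (Abelianization.of (G := X))) htop
    rwa [← MonoidHom.map_zpowers, Subgroup.comap_map_eq, Subgroup.comap_top, Abelianization.ker_of] at h
  rcases S4399.result P.2 hab hexp with h4 | ⟨k, ⟨e⟩⟩ | ⟨k, hk, x, y, hx, hy, hxy⟩ | ⟨k, ⟨e⟩⟩
  · exfalso
    rw [hn] at h4
    exact hn3 (Nat.pow_right_injective le_rfl (h4.trans (by norm_num)))
  · rcases k with _ | k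
    · exact ⟨e⟩
    exfalso
    have ho : orderOf (e w') = 4 := by rw [MulEquiv.orderOf_eq, hw'o]
    rcases he : e w' with i | i
    · have hmem : e.symm (DihedralGroup.r 1) ∈ A := hle _ (by
        refine e.injective ?_
        rw [map_mul, map_mul, MulEquiv.apply_symm_apply, he, DihedralGroup.r_mul_r,
          DihedralGroup.r_mul_r]
        exact congrArg DihedralGroup.r (add_comm _ _))
      have hd := Subgroup.orderOf_dvd_natCard A hmem
      rw [MulEquiv.orderOf_eq, DihedralGroup.orderOf_r_one, hA4,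
        Nat.pow_dvd_pow_iff_le_right (by norm_num)] at hd
      omega
    · rw [he, DihedralGroup.orderOf_sr] at ho
      omega
  · exfalso
    have hQD : Cfsg.IsQuasiDihedral X :=
      ⟨k + 3, by omega, by rw [hk], x, y, hx, hy, by rw [hxy, show k + 3 - 1 = k + 2 by omega]⟩
    obtain ⟨k', x', y', D⟩ := QuasiDihedral.exists_QD hQD
    obtain ⟨T, hT, hTS⟩ := NoIndexTwo.exists_four D
    obtain ⟨Q, hQS, ⟨eQ⟩⟩ := NoIndexTwo.exists_quat D
    obtain ⟨h₁, h₂⟩ := NoIndexTwo.qd_six D hidx hT hTS eQ hQS
    obtain ⟨-, -, hone⟩ := S1204.result P hQD T hT hTS Q hQS eQ h₁ h₂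
    haveI := (Nat.card_eq_one_iff_unique.1 hone).1
    set q : X := Recognition.powZ (2 ^ (k' + 3)) x' (QuasiDihedral.quarter k') with hq
    have hqo : orderOf (q : G) = 4 := by rw [Subgroup.orderOf_coe]; exact QuasiDihedral.orderOf_quarter D
    have hconj : IsConj w (q : G) := ConjClasses.mk_eq_mk_iff_isConj.1 (congrArg Subtype.val
      (Subsingleton.elim (α := {C : ConjClasses G // ∃ t : G, orderOf t = 4 ∧ ConjClasses.mk t = C})
        ⟨ConjClasses.mk w, w, hw, rfl⟩ ⟨ConjClasses.mk (q : G), q, hqo, rfl⟩))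
    have hcq := card_centralizer_conj hconj
    rw [hC] at hcq
    have hxq : (x' : G) ∈ centralizer ({(q : G)} : Set G) := by
      rw [mem_centralizer_singleton_iff]
      exact congrArg Subtype.val ((Commute.refl x').pow_right _).eq
    have hd := Subgroup.orderOf_dvd_natCard _ hxq
    rw [hcq, Subgroup.orderOf_coe, D.orderOf_x] at hd
    have h8 : (2 : ℕ) ^ 3 ≤ 2 ^ (k' + 3) := Nat.pow_le_pow_right two_pos (by omega)
    have := Nat.le_of_dvd (by norm_num) hd
    omega
  · exfalso
    have hO : ∀ N : Subgroup G, N.Normal → Odd (Nat.card N) → N = ⊥ := by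
      intro N hN hodd
      rcases hN.eq_bot_or_eq_top with h | h
      · exact h
      exfalso
      rw [h, Subgroup.card_top] at hodd
      have h2 : 2 ∣ Nat.card G := by
        have := orderOf_dvd_natCard w
        rw [hw] at this
        exact (show 2 ∣ 4 by norm_num).trans this
      exact Nat.not_even_iff_odd.2 hodd (even_iff_two_dvd.2 h2)
    have h := S0201.result P k e hO
    rw [SmallGroups.Sylow.center_eq_bot hna, Subgroup.card_bot] at h
    norm_num at h

/-- The set-up from a self-centralising element of order four. -/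
theorem exists_setup [IsSimpleGroup G] (hG : ¬ IsCyclic G) {w : G} (hw : orderOf w = 4)
    (hC : Nat.card (centralizer ({w} : Set G)) = 4) : ∃ S : Setup G, S.σ = w := by
  obtain ⟨P, hwP, ⟨e⟩⟩ := exists_dihedral_eight hG hw hC
  have hR : Sections.Rot P 4 w := Sections.rot_of_equiv e le_rfl dvd_rfl hwP hw
  obtain ⟨τ, hτ, hτz⟩ : ∃ τ ∈ (P : Subgroup G), τ ∉ zpowers w := by
    by_contra! h
    have hle := Subgroup.card_le_of_le (show (P : Subgroup G) ≤ zpowers w from h)
    rw [hR.card, Nat.card_zpowers, hw] at hle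
    omega
  exact ⟨⟨P, e, w, τ, hR, hτ, hτz, hC,
    Classif.SmallOrderKills.index_ne_two (not_comm_of_not_cyclic hG)⟩, rfl⟩

end Cfsg.Agent.Lib.SmallCentralizer
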