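/-
Simple groups with an element whose centraliser has order at most four.
-/
import Cfsg.Agent.Lib.SmallCentralizer.Main
import Cfsg.Agent.Lib.SmallCentralizer.TwoGroup
import Cfsg.Agent.Lib.DihedralCentralizer.Classify
import Cfsg.Agent.S3331
import Cfsg.Agent.S3277
import Cfsg.Agent.S0495
import Cfsg.Agent.S0497

set_option autoImplicit false

namespace Cfsg.Agent.Lib.SmallCentralizer

open Subgroup

universe u

variable {G : Type u} [Group G] [Finite G]

theorem of_three [IsSimpleGroup G] (hG : ¬ IsCyclic G) {w : G} (hw : orderOf w = 3)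
    (hC : Nat.card (centralizer ({w} : Set G)) = 3) :
    Nonempty (G ≃* alternatingGroup (Fin 5)) ∨
      Nonempty (G ≃* Matrix.ProjectiveSpecialLinearGroup (Fin 2) (ZMod 7)) := by
  have hna := not_comm_of_not_cyclic hG
  set X := zpowers w
  have hX : Nat.card X = 3 := by rw [Nat.card_zpowers, hw]
  have hCX : centralizer (X : Set G) = X := by
    refine le_antisymm (fun y hy => ?_) (fun y hy => ?_)
    · have e : X = centralizer ({w} : Set G) := Subgroup.eq_of_le_of_card_ge
        (zpowers_le.2 (mem_centralizer_singleton_iff.2 rfl)) (by rw [hC, hX])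
      rw [e, mem_centralizer_singleton_iff]
      exact (mem_centralizer_iff.1 hy w (mem_zpowers w)).symm
    · rw [mem_centralizer_iff]
      intro z hz
      obtain ⟨i, rfl⟩ := mem_zpowers_iff.1 hy
      obtain ⟨j, rfl⟩ := mem_zpowers_iff.1 (SetLike.mem_coe.1 hz)
      exact ((Commute.refl w).zpow_zpow j i).eq
  rcases Cfsg.Agent.S3331.result X hX hCX with ⟨N, hN, hnil, hcop, hq⟩ | ⟨N, hN, hc, -, ⟨e⟩⟩ | h
  · exfalso
    rcases hN.eq_bot_or_eq_top with h | h
    · subst h
      rcases hq with h3 | ⟨⟨e⟩⟩
      · rw [← Subgroup.index_eq_card, Subgroup.index_bot] at h3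
        exact hG (haveI : Fact (Nat.Prime 3) := ⟨by norm_num⟩; isCyclic_of_prime_card h3)
      · let f := (QuotientGroup.quotientBot (G := G)).symm.trans e
        refine Classif.SmallOrderKills.index_ne_two hna
          ((Equiv.Perm.sign.comp f.toMonoidHom).ker) ?_
        have hs : Function.Surjective (Equiv.Perm.sign.comp f.toMonoidHom) := by
          intro y
          obtain ⟨p, hp⟩ := Equiv.Perm.sign_surjective (Fin 3) y
          exact ⟨f.symm p, by simpa using hp⟩
        rw [Subgroup.index_ker, MonoidHom.range_eq_top.2 hs, Subgroup.card_top, Nat.card_eq_fintype_card,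
          Fintype.card_units_int]
    · subst h
      rcases hq with h3 | ⟨⟨e⟩⟩
      · rw [← Subgroup.index_eq_card, Subgroup.index_top] at h3
        omega
      · have h6 := Nat.card_congr e.toEquiv
        rw [← Subgroup.index_eq_card, Subgroup.index_top, Nat.card_perm, Nat.card_fin] at h6
        norm_num [Nat.factorial] at h6
  · rcases hN.eq_bot_or_eq_top with h | h
    · subst h
      exact Or.inl ⟨(QuotientGroup.quotientBot (G := G)).symm.trans e⟩
    · subst h
      exact absurd ⟨⟨fun a b => congrArg Subtype.val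
        (hc.is_comm.comm (⟨a, mem_top a⟩ : (⊤ : Subgroup G)) ⟨b, mem_top b⟩)⟩⟩ hna
  · exact Or.inr h

theorem of_involution [IsSimpleGroup G] (hG : ¬ IsCyclic G) {w : G} (hw : orderOf w = 2)
    (hC : Nat.card (centralizer ({w} : Set G)) ≤ 4) : Nonempty (G ≃* alternatingGroup (Fin 5)) := by
  haveI : Fact (Nat.Prime 2) := ⟨Nat.prime_two⟩
  have hna := not_comm_of_not_cyclic hG
  set C := centralizer ({w} : Set G)
  have hwC : w ∈ C := mem_centralizer_singleton_iff.2 rfl
  have h2 : 2 ∣ Nat.card C := hw ▸ Subgroup.orderOf_dvd_natCard C hwC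
  have hpos : 0 < Nat.card C := Nat.card_pos
  obtain ⟨P, hP⟩ := (IsPGroup.of_card (n := 1) (by rw [Nat.card_zpowers, hw, pow_one]) :
    IsPGroup 2 (zpowers w)).exists_le_sylow
  have hwP : w ∈ (P : Subgroup G) := hP (mem_zpowers w)
  have hPbot : (P : Subgroup G) ≠ ⊥ := fun h => by
    rw [h, Subgroup.mem_bot] at hwP
    rw [hwP, orderOf_one] at hw
    norm_num at hw
  -- the centraliser is not cyclic
  have hncyc : ¬ IsCyclic C := by
    intro hc
    refine sylow_two_not_cyclic hna P hPbot ?_
    haveI : Nontrivial (P : Subgroup G) := (P : Subgroup G).nontrivial_iff_ne_bot.2 hPbot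
    haveI := P.2.center_nontrivial
    obtain ⟨j, hj⟩ := (P.2.to_subgroup (center (P : Subgroup G))).exists_card_eq
    have hj0 : j ≠ 0 := fun h => by
      have := Finite.one_lt_card_iff_nontrivial.2 (inferInstance : Nontrivial (center (P : Subgroup G)))
      rw [hj, h, pow_zero] at this
      omega
    obtain ⟨z, hz⟩ := exists_prime_orderOf_dvd_card' (G := center (P : Subgroup G)) 2
      (hj ▸ dvd_pow_self 2 hj0)
    have hzo : orderOf ((z : (P : Subgroup G)) : G) = 2 := by
      rw [Subgroup.orderOf_coe, Subgroup.orderOf_coe, hz]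
    have hzC : ((z : (P : Subgroup G)) : G) ∈ C :=
      mem_centralizer_singleton_iff.2 (congrArg Subtype.val (mem_center_iff.1 z.2 ⟨w, hwP⟩)).symm
    have hzw : ((z : (P : Subgroup G)) : G) = w := by
      haveI := hc
      haveI := Fintype.ofFinite C
      have h1 : orderOf (⟨_, hzC⟩ : C) = 2 := by rw [← Subgroup.orderOf_coe]; exact hzo
      have h3 : orderOf (⟨w, hwC⟩ : C) = 2 := by rw [← Subgroup.orderOf_coe]; exact hw
      have hcard := IsCyclic.card_orderOf_eq_totient (α := C) (d := 2)
        (by rw [← Nat.card_eq_fintype_card]; exact h2)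
      rw [Nat.totient_two, Finset.card_eq_one] at hcard
      obtain ⟨t, ht⟩ := hcard
      have m1 : (⟨_, hzC⟩ : C) ∈ Finset.univ.filter (fun a : C => orderOf a = 2) := by simpa using h1
      have m2 : (⟨w, hwC⟩ : C) ∈ Finset.univ.filter (fun a : C => orderOf a = 2) := by simpa using h3
      rw [ht, Finset.mem_singleton] at m1 m2
      exact congrArg Subtype.val (m1.trans m2.symm)
    have hPC : (P : Subgroup G) ≤ C := fun p hp => by
      rw [mem_centralizer_singleton_iff, ← hzw]
      exact congrArg Subtype.val (mem_center_iff.1 z.2 ⟨p, hp⟩)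
    haveI := hc
    exact Subgroup.isCyclic_of_le hPC
  have hC4 : Nat.card C = 4 := by
    by_contra h
    have hC2 : Nat.card C = 2 := by omega
    exact hncyc (isCyclic_of_prime_card hC2)
  have hCe : ∀ c ∈ C, c ^ 2 = 1 := by
    intro c hc
    have hd : orderOf c ∣ 2 ^ 2 := by
      have h := Subgroup.orderOf_dvd_natCard C hc
      rw [hC4] at h
      exact h
    obtain ⟨j, hj, hj'⟩ := (Nat.dvd_prime_pow Nat.prime_two).1 hd
    rw [← orderOf_dvd_iff_pow_eq_one, hj']
    interval_cases j
    · norm_num
    · norm_num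
    exfalso
    refine hncyc (isCyclic_of_orderOf_eq_card (⟨c, hc⟩ : C) ?_)
    rw [← Subgroup.orderOf_coe, hj', hC4]
    norm_num
  refine Cfsg.Agent.S3277.result w hw hC4 hCe ?_ ?_
  · rintro ⟨Q, N, hN, hcompl⟩
    rcases hN.eq_bot_or_eq_top with h | h
    · subst h
      rw [isComplement'_bot_left] at hcompl
      haveI : Nontrivial G := IsSimpleGroup.toNontrivial
      haveI := (hcompl ▸ Q.2 : IsPGroup 2 (⊤ : Subgroup G)).of_equiv topEquiv |>.isNilpotent
      exact hna ((IsSimpleGroup.comm_iff_isSolvable (G := G)).2 inferInstance |> fun h => ⟨⟨h⟩⟩)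
    · subst h
      rw [isComplement'_top_left] at hcompl
      have h' := Q.card_eq_multiplicity
      rw [hcompl, Subgroup.card_bot] at h'
      have h'' : 1 ≤ (Nat.card G).factorization 2 :=
        Nat.Prime.factorization_pos_of_dvd Nat.prime_two Nat.card_pos.ne'
          (h2.trans (Subgroup.card_subgroup_dvd_card C))
      have : 2 ^ 1 ≤ 2 ^ (Nat.card G).factorization 2 := Nat.pow_le_pow_right two_pos h''
      omega
  · intro E hE hEA
    rcases hE.eq_bot_or_eq_top with h | h
    · subst h
      rw [Subgroup.card_bot]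
      omega
    · subst h
      exact absurd ⟨⟨fun a b => congrArg Subtype.val
        (hEA.1.is_comm.comm (⟨a, mem_top a⟩ : (⊤ : Subgroup G)) ⟨b, mem_top b⟩)⟩⟩ hna

/-- The dichotomy for a self-centralising element of order four. -/
theorem of_four [IsSimpleGroup G] (hG : ¬ IsCyclic G) {w : G} (hw : orderOf w = 4)
    (hC : Nat.card (centralizer ({w} : Set G)) = 4) :
    Nat.card G = 168 ∨ Nat.card G = 360 ∨ Nat.card G = 2520 := by
  obtain ⟨S, -⟩ := exists_setup hG hw hC
  rcases S.dichotomy with h8 | h
  · have he : (S.P : Subgroup G) = centralizer ({S.J} : Set G) :=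
      Subgroup.eq_of_le_of_card_ge S.le_CJ (by rw [h8, S.rot.card])
    obtain ⟨-, h⟩ := DihedralCentralizer.simple_order S.orderOf_J
      ((MulEquiv.subgroupCongr he.symm).trans S.eP) S.hidx
    rcases h with h | h
    · exact Or.inl h
    · exact Or.inr (Or.inl h)
  · exact Or.inr (Or.inr h)

/-- Simple groups with a centraliser of order at most four, up to the recognition of order 2520. -/
theorem classify [IsSimpleGroup G] (hG : ¬ IsCyclic G) (w : G)
    (hw : Nat.card (centralizer ({w} : Set G)) ≤ 4) :
    Nonempty (G ≃* alternatingGroup (Fin 5)) ∨ Nonempty (G ≃* alternatingGroup (Fin 6)) ∨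
      Nat.card G = 2520 ∨ Nonempty (G ≃* Matrix.ProjectiveSpecialLinearGroup (Fin 2) (ZMod 7)) := by
  haveI : Fact (Nat.Prime 7) := ⟨by norm_num⟩
  have hd : orderOf w ∣ Nat.card (centralizer ({w} : Set G)) :=
    Subgroup.orderOf_dvd_natCard _ (mem_centralizer_singleton_iff.2 rfl)
  have hle := Nat.le_of_dvd Nat.card_pos hd
  have hpos := orderOf_pos w
  have hw1 : orderOf w ≠ 1 := by
    intro h
    rw [orderOf_eq_one_iff] at h
    subst h
    have htop : centralizer ({(1 : G)} : Set G) = ⊤ :=
      eq_top_iff.2 fun x _ => mem_centralizer_singleton_iff.2 (by simp)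
    rw [htop, Subgroup.card_top] at hw
    haveI : Nontrivial G := IsSimpleGroup.toNontrivial
    have h2 : 1 < Nat.card G := Finite.one_lt_card
    have h4 : ¬ (Nat.card G).Prime := fun h => hG (haveI := Fact.mk h; isCyclic_of_prime_card rfl)
    obtain h | h | h : Nat.card G = 2 ∨ Nat.card G = 3 ∨ Nat.card G = 4 := by omega
    · exact h4 (h ▸ Nat.prime_two)
    · exact h4 (h ▸ Nat.prime_three)
    · haveI : Fact (Nat.Prime 2) := ⟨Nat.prime_two⟩
      exact not_comm_of_not_cyclic hG
        (IsPGroup.isMulCommutative_of_card_eq_prime_sq (p := 2) (by rw [h]; norm_num))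
  obtain h | h | h : orderOf w = 2 ∨ orderOf w = 3 ∨ orderOf w = 4 := by omega
  · exact Or.inl (of_involution hG h hw)
  · have hC : Nat.card (centralizer ({w} : Set G)) = 3 := by
      rw [h] at hd; omega
    rcases of_three hG h hC with h' | h'
    · exact Or.inl h'
    · exact Or.inr (Or.inr (Or.inr h'))
  · have hC : Nat.card (centralizer ({w} : Set G)) = 4 := by omega
    rcases of_four hG h hC with h' | h' | h'
    · exact Or.inr (Or.inr (Or.inr (Cfsg.Agent.S0495.result h' (ZMod.card 7))))
    · exact Or.inr (Or.inl (Cfsg.Agent.S0497.result h'))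
    · exact Or.inr (Or.inr (Or.inl h'))

end Cfsg.Agent.Lib.SmallCentralizer
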